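import Cfsg.Agent.Lib.Techniques.PPrimeAbelian.Omega2
import Cfsg.Agent.Lib.Characters.Burnside

/-!
The class equation has no solution: every group in which the `p'`-subgroups are abelian of exponent dividing
`p - 1` is solvable.
-/

set_option autoImplicit false
set_option linter.unusedSectionVars false
set_option linter.style.haveILetI false

namespace CfsgLib.Techniques.PPA

open Subgroup
open scoped commutatorElement Pointwise BigOperators

universe u

variable {G : Type u} [Group G] [Finite G] {p : ℕ} [hp : Fact p.Prime]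

omit [Finite G] in
theorem type_card_pos {E : Subgroup G} (hE : IsType p E) [Finite G] : 2 ≤ Nat.card ↥E :=
  E.one_lt_card_iff_ne_bot.2 hE.ne_bot

/-- The number of elements in the conjugates of `E`, other than `1`. -/
noncomputable def cover (E : Subgroup G) : ℕ :=
  (normalizer (E : Set G)).index * (Nat.card ↥E - 1)

theorem card_ne_one (E : Subgroup G) : Nat.card {a : ↥E // a ≠ 1} = Nat.card ↥E - 1 := by
  classical
  letI := Fintype.ofFinite ↥E
  rw [Nat.card_eq_fintype_card, Nat.card_eq_fintype_card, Fintype.card_subtype_compl,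
    Fintype.card_subtype_eq]

theorem card_split :
    Nat.card G = Nat.card {x : G // p ∣ orderOf x} + Nat.card {x : G // (orderOf x).Coprime p ∧ x ≠ 1} + 1 := by
  classical
  letI := Fintype.ofFinite G
  simp only [Nat.card_eq_fintype_card, Fintype.card_subtype]
  have h1 : (Finset.univ.filter fun x : G => ¬ p ∣ orderOf x) =
      insert 1 (Finset.univ.filter fun x : G => (orderOf x).Coprime p ∧ x ≠ 1) := by
    ext x
    simp only [Finset.mem_filter, Finset.mem_univ, true_and, Finset.mem_insert]
    rw [Nat.coprime_comm, hp.out.coprime_iff_not_dvd]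
    by_cases hx : x = 1
    · simp [hx, hp.out.ne_one]
    · simp [hx]
  have h2 : (1 : G) ∉ Finset.univ.filter fun x : G => (orderOf x).Coprime p ∧ x ≠ 1 := by simp
  rw [← Finset.card_univ, ← Finset.card_filter_add_card_filter_not (fun x : G => p ∣ orderOf x), h1,
    Finset.card_insert_of_notMem h2, add_assoc]

theorem conj_type_mem {E : Subgroup G} (hE : IsType p E) (i : G ⧸ normalizer (E : Set G)) (a : {a : ↥E // a ≠ 1}) :
    (orderOf (i.out * (a.1 : G) * i.out⁻¹)).Coprime p ∧ i.out * (a.1 : G) * i.out⁻¹ ≠ 1 := by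
  refine ⟨(hE.conj i.out).orderOf_coprime ⟨_, a.1.2, rfl⟩, ?_⟩
  rw [ne_eq, conj_eq_one_iff]
  exact fun h => a.2 (Subtype.ext h)

theorem cover_injective {E : Subgroup G} (hE : IsType p E) :
    Function.Injective fun s : (G ⧸ normalizer (E : Set G)) × {a : ↥E // a ≠ 1} =>
      s.1.out * (s.2.1 : G) * s.1.out⁻¹ := by
  rintro ⟨i, a⟩ ⟨j, b⟩ e
  simp only at e
  have hij : i = j := by
    have h1 := (hE.conj i.out).unique (hE.conj j.out) ⟨_, a.1.2, rfl⟩
      ⟨_, b.1.2, by simpa using e.symm⟩ (conj_type_mem hE i a).2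
    rw [← QuotientGroup.out_eq' i, ← QuotientGroup.out_eq' j]
    refine QuotientGroup.eq.2 (map_conj_eq_self_iff.1 ?_)
    rw [← CfsgLib.Signalizer.conj_map_map, ← h1, CfsgLib.Signalizer.conj_map_map, inv_mul_cancel,
      CfsgLib.Signalizer.conj_map_one]
  subst hij
  exact Prod.ext rfl (Subtype.ext (Subtype.ext (mul_left_cancel (mul_right_cancel e))))

omit hp in
theorem card_cover_domain (E : Subgroup G) :
    Nat.card ((G ⧸ normalizer (E : Set G)) × {a : ↥E // a ≠ 1}) = cover E := by
  rw [Nat.card_prod, card_ne_one, cover, index]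

theorem cover_le {E : Subgroup G} (hE : IsType p E) :
    cover E ≤ Nat.card {x : G // (orderOf x).Coprime p ∧ x ≠ 1} := by
  rw [← card_cover_domain]
  exact Nat.card_le_card_of_injective (fun s => ⟨_, conj_type_mem hE s.1 s.2⟩)
    fun s t h => cover_injective hE (congrArg Subtype.val h)

theorem cover_add_le {E F : Subgroup G} (hE : IsType p E) (hF : IsType p F)
    (hne : ∀ g : G, E.map (MulAut.conj g).toMonoidHom ≠ F) :
    cover E + cover F ≤ Nat.card {x : G // (orderOf x).Coprime p ∧ x ≠ 1} := by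
  rw [← card_cover_domain E, ← card_cover_domain F, ← Nat.card_sum]
  refine Nat.card_le_card_of_injective
    (Sum.elim (fun s => ⟨_, conj_type_mem hE s.1 s.2⟩) fun s => ⟨_, conj_type_mem hF s.1 s.2⟩) ?_
  have hcross : ∀ s : (G ⧸ normalizer (E : Set G)) × {a : ↥E // a ≠ 1},
      ∀ t : (G ⧸ normalizer (F : Set G)) × {a : ↥F // a ≠ 1},
        s.1.out * (s.2.1 : G) * s.1.out⁻¹ ≠ t.1.out * (t.2.1 : G) * t.1.out⁻¹ := by
    rintro ⟨i, a⟩ ⟨j, b⟩ e
    simp only at e
    have h1 := (hE.conj i.out).unique (hF.conj j.out) ⟨_, a.1.2, rfl⟩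
      ⟨_, b.1.2, by simpa using e.symm⟩ (conj_type_mem hE i a).2
    refine hne (j.out⁻¹ * i.out) ?_
    rw [← CfsgLib.Signalizer.conj_map_map, h1, CfsgLib.Signalizer.conj_map_map, inv_mul_cancel,
      CfsgLib.Signalizer.conj_map_one]
  rintro (s | s) (t | t) e
  · exact congrArg Sum.inl (cover_injective hE (congrArg Subtype.val e))
  · exact absurd (congrArg Subtype.val e) (hcross s t)
  · exact absurd (congrArg Subtype.val e).symm (hcross t s)
  · exact congrArg Sum.inr (cover_injective hF (congrArg Subtype.val e))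

namespace Min

variable (hG : Min p G)
include hG

theorem card_cover {E : Subgroup G} (hE : IsType p E) :
    ∃ k : ℕ, k ≠ 0 ∧ Nat.card ↥(normalizer (E : Set G)) = Nat.card ↥E * p ^ k ∧
      cover E * (Nat.card ↥E * p ^ k) = Nat.card G * (Nat.card ↥E - 1) := by
  obtain ⟨k, hk0, hk⟩ := hG.type_index hE
  refine ⟨k, hk0, hk, ?_⟩
  rw [← hk, ← card_mul_index (normalizer (E : Set G)), cover]
  ring

theorem two_p_lt : 2 * p < Nat.card G := by
  obtain ⟨y, hy⟩ : ∃ y : G, (orderOf y).Coprime p ∧ y ≠ 1 := by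
    by_contra hno
    push Not at hno
    refine hG.not_isPGroup fun x => ?_
    obtain ⟨u, v, rfl, -, -, -, hu, hv⟩ := exists_parts (p := p) x
    obtain ⟨k, hk⟩ := hu ⟨u, mem_zpowers u⟩
    exact ⟨k, by rw [hno v hv, mul_one]; simpa using congrArg Subtype.val hk⟩
  obtain ⟨E, hE, -⟩ := hG.exists_isType hy.1 hy.2
  obtain ⟨k, hk0, hk, -⟩ := hG.card_cover hE
  have h1 : 2 * p ≤ Nat.card ↥(normalizer (E : Set G)) := by
    rw [hk]
    exact Nat.mul_le_mul (type_card_pos hE) (Nat.le_self_pow hk0 p)
  refine lt_of_le_of_lt h1 (lt_of_le_of_ne (card_le_card_group _) fun e => ?_)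
  exact hG.type_normalizer_ne_top hE (eq_top_of_card_eq _ e)

/-- At most `|G| / p` elements have order divisible by a given prime `q ≠ p`. -/
theorem cover_upper {q : ℕ} [hq : Fact q.Prime] (hqp : q ≠ p) (hd : q ∣ Nat.card G) :
    Nat.card {x : G // (orderOf x).Coprime p ∧ q ∣ orderOf x} * p ≤ Nat.card G := by
  obtain ⟨Q⟩ : Nonempty (Sylow q G) := inferInstance
  have hQ : (Q : Subgroup G) ≠ ⊥ := Q.ne_bot_of_dvd_card hd
  obtain ⟨hE, -⟩ := hG.isType_core hqp Q hQ
  obtain ⟨a, ha, ha1⟩ : ∃ a ∈ (Q : Subgroup G), a ≠ 1 := by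
    by_contra hh
    push Not at hh
    exact hQ ((eq_bot_iff_forall _).2 hh)
  obtain ⟨E, hE, haE⟩ := hG.exists_isType
    ((hG.coprime_of_isPGroup hqp Q.isPGroup').coprime_dvd_left (orderOf_dvd_card_of_mem ha)) ha1
  have hQE := hG.sylow_le_type hqp hE haE ha1 Q ha
  obtain ⟨k, hk0, hk, -⟩ := hG.card_cover hE
  set M := normalizer (E : Set G) with hM
  have hle : Nat.card {x : G // (orderOf x).Coprime p ∧ q ∣ orderOf x} ≤ M.index * Nat.card ↥E := by
    have hmem : ∀ x : {x : G // (orderOf x).Coprime p ∧ q ∣ orderOf x},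
        ∃ i : G ⧸ M, i.out⁻¹ * (x : G) * i.out ∈ E := by
      rintro ⟨x, hxc, hxq⟩
      have hx1 : x ≠ 1 := fun h => by
        rw [h, orderOf_one] at hxq
        exact hq.out.ne_one (Nat.dvd_one.1 hxq)
      obtain ⟨F, hF, hxF⟩ := hG.exists_isType hxc hx1
      set b := x ^ (orderOf x / q) with hb
      have hbo : orderOf b = q := orderOf_pow_orderOf_div (orderOf_pos x).ne' hxq
      have hb1 : b ≠ 1 := fun h => hq.out.one_lt.ne' (by rw [← hbo, h, orderOf_one])
      obtain ⟨S, hS⟩ := (IsPGroup.of_card (n := 1) (show Nat.card ↥(zpowers b) = q ^ 1 by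
        rw [Nat.card_zpowers, hbo, pow_one])).exists_le_sylow
      obtain ⟨g, hg⟩ := MulAction.exists_smul_eq G Q S
      have hbS : b ∈ (S : Subgroup G) := hS (mem_zpowers _)
      have hbE : b ∈ E.map (MulAut.conj g).toMonoidHom := by
        rw [← hg, Sylow.coe_subgroup_smul] at hbS
        exact Subgroup.map_mono hQE hbS
      have hFE := hF.unique (hE.conj g) (pow_mem hxF _) hbE hb1
      refine ⟨(QuotientGroup.mk g : G ⧸ M), ?_⟩
      obtain ⟨m, hm⟩ := QuotientGroup.mk_out_eq_mul M g
      rw [hm]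
      obtain ⟨e, he, hex⟩ := hFE.le hxF
      have : (g * (m : G))⁻¹ * x * (g * m) = (m : G)⁻¹ * e * m := by
        rw [← hex]
        show (g * (m : G))⁻¹ * (g * e * g⁻¹) * (g * m) = _
        group
      show (g * (m : G))⁻¹ * x * (g * m) ∈ E
      rw [this]
      simpa using (mem_normalizer_iff.1 (inv_mem m.2) e).1 he
    choose f hf using hmem
    rw [index, ← Nat.card_prod]
    refine Nat.card_le_card_of_injective (fun x => (f x, (⟨_, hf x⟩ : ↥E))) fun x y e => ?_
    have h1 : f x = f y := congrArg Prod.fst e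
    have h2 : (f x).out⁻¹ * (x : G) * (f x).out = (f y).out⁻¹ * (y : G) * (f y).out :=
      congrArg Subtype.val (congrArg Prod.snd e)
    rw [h1] at h2
    exact Subtype.ext (mul_left_cancel (mul_right_cancel h2))
  refine (Nat.mul_le_mul_right p hle).trans ?_
  rw [← card_mul_index M, hk, mul_comm (Nat.card ↥E * p ^ k), mul_assoc]
  exact Nat.mul_le_mul_left _ (Nat.mul_le_mul_left _ (Nat.le_self_pow hk0 p))

theorem pPrime_upper :
    Nat.card {x : G // (orderOf x).Coprime p ∧ x ≠ 1} * p ≤ (p - 1).primeFactors.card * Nat.card G := by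
  classical
  letI := Fintype.ofFinite G
  have hcard : ∀ (r : G → Prop) [DecidablePred r], Nat.card {x : G // r x} = (Finset.univ.filter r).card :=
    fun r _ => by rw [Nat.card_eq_fintype_card, Fintype.card_subtype]
  have hsub : (Finset.univ.filter fun x : G => (orderOf x).Coprime p ∧ x ≠ 1) ⊆
      (p - 1).primeFactors.biUnion fun q => Finset.univ.filter fun x : G =>
        (orderOf x).Coprime p ∧ q ∣ orderOf x := by
    intro x hx
    simp only [Finset.mem_filter, Finset.mem_univ, true_and] at hx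
    obtain ⟨q, hq, hd⟩ := Nat.exists_prime_and_dvd (n := orderOf x) (fun h => hx.2 (orderOf_eq_one_iff.1 h))
    haveI := Fact.mk hq
    have hqp : q ≠ p := fun h => hq.coprime_iff_not_dvd.1 (h ▸ hx.1.symm) hd
    simp only [Finset.mem_biUnion, Finset.mem_filter, Finset.mem_univ, true_and]
    refine ⟨q, Nat.mem_primeFactors.2 ⟨hq, hG.dvd_pred hqp (hd.trans (orderOf_dvd_natCard x)), ?_⟩,
      hx.1, hd⟩
    have := hG.ge5
    omega
  rw [hcard]
  refine (Nat.mul_le_mul_right p ((Finset.card_le_card hsub).trans Finset.card_biUnion_le)).trans ?_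
  rw [Finset.sum_mul, ← smul_eq_mul]
  refine Finset.sum_le_card_nsmul _ _ _ fun q hq => ?_
  obtain ⟨hqpr, hqd, -⟩ := Nat.mem_primeFactors.1 hq
  haveI := Fact.mk hqpr
  have hqp : q ≠ p := fun h => by
    subst h
    exact absurd (Nat.le_of_dvd (by have := hG.ge5; omega) hqd) (by have := hG.ge5; omega)
  by_cases hd : q ∣ Nat.card G
  · rw [← hcard]; exact hG.cover_upper hqp hd
  · rw [show (Finset.univ.filter fun x : G => (orderOf x).Coprime p ∧ q ∣ orderOf x) = ∅ from
      Finset.filter_eq_empty_iff.2 fun x _ h => hd (h.2.trans (orderOf_dvd_natCard x)),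
      Finset.card_empty, zero_mul]
    exact Nat.zero_le _

theorem two_mul_primeFactors_lt : 2 * (p - 1).primeFactors.card < p := by
  have h5 := hG.ge5
  have h1 : 2 ^ (p - 1).primeFactors.card ≤ p - 1 := by
    refine le_trans ?_ (Nat.le_of_dvd (by omega) (Nat.prod_primeFactors_dvd (p - 1)))
    exact Finset.pow_card_le_prod _ _ _ fun q hq => (Nat.prime_of_mem_primeFactors hq).two_le
  have h2 : 2 * (p - 1).primeFactors.card ≤ 2 ^ (p - 1).primeFactors.card := by
    generalize (p - 1).primeFactors.card = m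
    induction m with
    | zero => simp
    | succ m ih =>
      rcases m with _ | m
      · simp
      · rw [pow_succ]; omega
  omega

/-- The class equation. -/
theorem absurd_of_min : False := by
  classical
  obtain ⟨P⟩ : Nonempty (Sylow p G) := inferInstance
  obtain ⟨B, hB⟩ := exists_isNComp P
  letI := Fintype.ofFinite {v : G // v ∈ (P : Subgroup G) ∧ v ≠ 1}
  set sing := Nat.card {x : G // p ∣ orderOf x} with hsing
  set pp := Nat.card {x : G // (orderOf x).Coprime p ∧ x ≠ 1} with hpp
  have hsplit : Nat.card G = sing + pp + 1 := card_split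
  set N := normalizer ((P : Subgroup G) : Set G) with hN
  have hsc := hG.singular_card P
  rw [← hsing] at hsc
  have hV : Fintype.card {v : G // v ∈ (P : Subgroup G) ∧ v ≠ 1} = Nat.card ↥(P : Subgroup G) - 1 := by
    rw [← card_ne_one, ← Nat.card_eq_fintype_card]
    exact Nat.card_congr
      { toFun := fun v => ⟨⟨v.1, v.2.1⟩, fun h => v.2.2 (congrArg Subtype.val h)⟩
        invFun := fun a => ⟨a.1.1, a.1.2, fun h => a.2 (Subtype.ext h)⟩
        left_inv := fun v => rfl
        right_inv := fun a => rfl }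
  have hPpos : 1 ≤ Nat.card ↥(P : Subgroup G) := Nat.card_pos
  have hPp : p ≤ Nat.card ↥(P : Subgroup G) := Nat.le_of_dvd Nat.card_pos (P.dvd_card_of_dvd_card hG.dvd_card)
  have hCpos : ∀ v : G, (0 : ℚ) < Nat.card ↥(centralizer ({v} : Set G)) := fun v => by exact_mod_cast Nat.card_pos
  -- exact count when no element of `B` centralizes an element of `P#`
  have exact_case : (∀ v : {v : G // v ∈ (P : Subgroup G) ∧ v ≠ 1},
      ∀ b ∈ N ⊓ centralizer ({(v : G)} : Set G), (orderOf b).Coprime p → b = 1) →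
      sing * Nat.card ↥N = Nat.card G * (Nat.card ↥(P : Subgroup G) - 1) := by
    intro h
    have h1 : (sing : ℚ) * Nat.card ↥N = ((Nat.card G * (Nat.card ↥(P : Subgroup G) - 1) : ℕ) : ℚ) := by
      rw [hsc, Nat.cast_mul, ← hV, ← Finset.card_univ, Finset.card_eq_sum_ones, Nat.cast_sum]
      congr 1
      refine Finset.sum_congr rfl fun v _ => ?_
      rw [Nat.cast_one, div_eq_one_iff_eq (hCpos v).ne']
      exact_mod_cast hG.weight_eq v.2.1 v.2.2 (h v)
    exact_mod_cast h1
  rcases eq_or_ne B ⊥ with hB1 | hB1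
  · -- the Sylow normalizer is a `p`-group
    have hNP : Nat.card ↥N = Nat.card ↥(P : Subgroup G) := by rw [hN, hB.card, hB1, card_bot, mul_one]
    have hNle : N ≤ (P : Subgroup G) := by rw [hN, ← hB.sup, hB1, bot_sup_eq]
    have h := exact_case fun v b hb hbc => by
      have hbP : b ∈ (P : Subgroup G) := hNle (mem_inf.1 hb).1
      have hd := orderOf_dvd_card_of_mem hbP
      obtain ⟨j, hj⟩ := IsPGroup.iff_card.1 P.isPGroup'
      rw [hj] at hd
      exact orderOf_eq_one_iff.1 (Nat.eq_one_of_dvd_coprimes (hbc.pow_right j) dvd_rfl hd)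
    rw [hNP] at h
    have hG1 : Nat.card G = (pp + 1) * Nat.card ↥(P : Subgroup G) := by
      have e1 := congrArg (· * Nat.card ↥(P : Subgroup G)) hsplit

      rw [add_assoc, add_mul, h, Nat.mul_sub, mul_one] at e1
      have h2 : Nat.card G ≤ Nat.card G * Nat.card ↥(P : Subgroup G) := Nat.le_mul_of_pos_right _ hPpos
      omega
    obtain ⟨a, ha1, hac⟩ : ∃ a : G, a ≠ 1 ∧ (orderOf a).Coprime p := by
      by_contra hno
      push Not at hno
      refine hG.not_isPGroup fun x => ?_
      obtain ⟨u, v, rfl, -, -, -, hu, hv⟩ := exists_parts (p := p) x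
      obtain ⟨k, hk⟩ := hu ⟨u, mem_zpowers u⟩
      have hv1 : v = 1 := by by_contra h1; exact hno v h1 hv
      exact ⟨k, by rw [hv1, mul_one]; simpa using congrArg Subtype.val hk⟩
    obtain ⟨E, hE, -⟩ := hG.exists_isType hac ha1
    obtain ⟨k, hk0, hkN, hkc⟩ := hG.card_cover hE
    have he := type_card_pos hE
    have hkP : p ^ k ∣ Nat.card ↥(P : Subgroup G) := by
      rw [P.card_eq_multiplicity]
      refine pow_dvd_pow p ((hp.out.pow_dvd_iff_le_factorization Nat.card_pos.ne').1 ?_)
      exact (Dvd.intro_left _ hkN.symm).trans (card_subgroup_dvd_card _)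
    obtain ⟨j, hj⟩ := hkP
    by_cases hlt : 2 ≤ j
    · -- one class is already too large
      have hjp : p ≤ j := by
        have hdj : j ∣ Nat.card ↥(P : Subgroup G) := Dvd.intro_left _ hj.symm
        obtain ⟨i, hi⟩ := IsPGroup.iff_card.1 P.isPGroup'
        obtain ⟨l, -, hl⟩ := (Nat.dvd_prime_pow hp.out).1 (hi ▸ hdj)
        rw [hl]
        refine Nat.le_self_pow ?_ p
        rintro rfl
        rw [pow_zero] at hl
        omega
      have h1 := cover_le hE
      rw [← hpp] at h1
      have h5 := hG.ge5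
      have h2 : Nat.card ↥E ≤ (Nat.card ↥E - 1) * j := by
        calc Nat.card ↥E ≤ (Nat.card ↥E - 1) * 2 := by omega
          _ ≤ _ := Nat.mul_le_mul_left _ hlt
      have h3 : Nat.card G * Nat.card ↥E ≤ cover E * Nat.card ↥(P : Subgroup G) * Nat.card ↥E := by
        calc Nat.card G * Nat.card ↥E ≤ Nat.card G * ((Nat.card ↥E - 1) * j) := Nat.mul_le_mul_left _ h2
          _ = cover E * (Nat.card ↥E * p ^ k) * j := by rw [hkc, mul_assoc]
          _ = cover E * Nat.card ↥(P : Subgroup G) * Nat.card ↥E := by rw [hj]; ring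
      have h4 := Nat.le_of_mul_le_mul_right h3 (by omega)
      have h6 : cover E * Nat.card ↥(P : Subgroup G) ≤ pp * Nat.card ↥(P : Subgroup G) :=
        Nat.mul_le_mul_right _ h1
      rw [add_mul, one_mul] at hG1
      omega
    · -- a second class
      have hj1 : j = 1 := by
        have : j ≠ 0 := fun h0 => by rw [h0, mul_zero] at hj; omega
        omega
      subst hj1
      rw [mul_one] at hj
      obtain ⟨ℓ, hℓ, hℓd⟩ : ∃ ℓ, ℓ.Prime ∧
          ¬ (Nat.card G).factorization ℓ ≤ (Nat.card ↥(normalizer (E : Set G))).factorization ℓ := by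
        by_contra hno
        push Not at hno
        refine hG.type_normalizer_ne_top hE (eq_top_of_card_eq _
          (Nat.dvd_antisymm (card_subgroup_dvd_card _) ?_))
        rw [← Nat.factorization_le_iff_dvd Nat.card_pos.ne' Nat.card_pos.ne']
        intro ℓ
        by_cases hℓ : ℓ.Prime
        · exact hno ℓ hℓ
        · rw [Nat.factorization_eq_zero_of_not_prime _ hℓ]; exact Nat.zero_le _
      haveI := Fact.mk hℓ
      have hℓp : ℓ ≠ p := by
        rintro rfl
        refine hℓd ((hp.out.pow_dvd_iff_le_factorization Nat.card_pos.ne').1 ?_)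
        rw [← P.card_eq_multiplicity, hj, hkN]
        exact dvd_mul_left _ _
      obtain ⟨L⟩ : Nonempty (Sylow ℓ G) := inferInstance
      have hLne : (L : Subgroup G) ≠ ⊥ := fun h => hℓd (by
        have h1 := L.card_eq_multiplicity
        rw [h, card_bot] at h1
        have : (Nat.card G).factorization ℓ = 0 := by
          by_contra h0
          exact absurd h1.symm (Nat.one_lt_pow h0 hℓ.one_lt).ne'
        rw [this]; exact Nat.zero_le _)
      obtain ⟨y, hy, hy1⟩ : ∃ y ∈ (L : Subgroup G), y ≠ 1 := by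
        by_contra hh
        push Not at hh
        exact hLne ((eq_bot_iff_forall _).2 hh)
      obtain ⟨F, hF, hyF⟩ := hG.exists_isType
        ((hG.coprime_of_isPGroup hℓp L.isPGroup').coprime_dvd_left (orderOf_dvd_card_of_mem hy)) hy1
      have hLF := hG.sylow_le_type hℓp hF hyF hy1 L hy
      have hne : ∀ g : G, E.map (MulAut.conj g).toMonoidHom ≠ F := fun g hg => hℓd (by
        refine (hℓ.pow_dvd_iff_le_factorization Nat.card_pos.ne').1 ?_
        rw [← L.card_eq_multiplicity, hkN]
        refine (card_dvd_of_le hLF).trans ?_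
        rw [← hg, card_map_of_injective (MulAut.conj g).injective]
        exact dvd_mul_right _ _)
      obtain ⟨l, hl0, hlN, hlc⟩ := hG.card_cover hF
      have hf := type_card_pos hF
      have hlP : p ^ l ≤ Nat.card ↥(P : Subgroup G) := by
        rw [P.card_eq_multiplicity]
        refine Nat.pow_le_pow_right hp.out.pos ((hp.out.pow_dvd_iff_le_factorization Nat.card_pos.ne').1 ?_)
        exact (Dvd.intro_left _ hlN.symm).trans (card_subgroup_dvd_card _)
      have h1 := cover_add_le hE hF hne
      rw [← hpp] at h1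
      have hbd : ∀ (e w c : ℕ), 2 ≤ e → w ≤ Nat.card ↥(P : Subgroup G) → c * (e * w) = Nat.card G * (e - 1) →
          Nat.card G ≤ 2 * (c * Nat.card ↥(P : Subgroup G)) := by
        intro e w c he2 hw hc
        refine Nat.le_of_mul_le_mul_right ?_ (by omega : 0 < e)
        calc Nat.card G * e ≤ Nat.card G * (2 * (e - 1)) := Nat.mul_le_mul_left _ (by omega)
          _ = 2 * (c * (e * w)) := by rw [hc]; ring
          _ ≤ 2 * (c * (e * Nat.card ↥(P : Subgroup G))) := by gcongr
          _ = 2 * (c * Nat.card ↥(P : Subgroup G)) * e := by ring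
      have h2 := hbd _ _ _ he hj.ge hkc
      have h3 := hbd _ _ _ hf hlP hlc
      have h4 : (cover E + cover F) * Nat.card ↥(P : Subgroup G) ≤ pp * Nat.card ↥(P : Subgroup G) :=
        Nat.mul_le_mul_right _ h1
      rw [add_mul] at h4
      rw [add_mul, one_mul] at hG1
      omega
  -- `B ≠ 1`
  obtain ⟨E, hE, hBE, hW, hCb, h2B, hWP⟩ := hG.isType_facts hB hB1
  have hα : 2 ≤ Nat.card ↥B := B.one_lt_card_iff_ne_bot.2 hB1
  set W := fixSub P B with hWdef
  rcases eq_or_ne W ⊥ with hW1 | hW1
  · -- `P` meets no centralizer of an element of `B#`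
    have h := exact_case fun v b hb hbc => by
      by_contra hb1
      obtain ⟨x, hxP, hxB⟩ :=
        hG.exists_conj_mem_complement P hB.le hB.coprime hB.sup (mem_inf.1 hb).1 hbc
      have hne : x⁻¹ * b * x ≠ 1 := fun h1 => hb1 (by
        calc b = x * (x⁻¹ * b * x) * x⁻¹ := by group
          _ = 1 := by rw [h1]; group)
      have hm : x⁻¹ * (v : G) * x ∈ W := (hCb _ hxB hne).le (mem_inf.2
        ⟨mul_mem (mul_mem (inv_mem hxP) v.2.1) hxP, mem_centralizer_singleton_iff.2 (by
          calc x⁻¹ * (v : G) * x * (x⁻¹ * b * x) = x⁻¹ * ((v : G) * b) * x := by group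
            _ = x⁻¹ * b * x * (x⁻¹ * (v : G) * x) := by
              rw [← mem_centralizer_singleton_iff.1 (mem_inf.1 hb).2]; group)⟩)
      rw [hW1, mem_bot] at hm
      exact v.2.2 (by calc (v : G) = x * (x⁻¹ * v * x) * x⁻¹ := by group
        _ = 1 := by rw [hm]; group)
    rw [hN, hB.card, Nat.mul_sub, mul_one] at h
    have h1 : sing * 2 ≤ Nat.card G := by
      refine Nat.le_of_mul_le_mul_right ?_ (show 0 < Nat.card ↥(P : Subgroup G) from Nat.card_pos)
      calc sing * 2 * Nat.card ↥(P : Subgroup G) = sing * (Nat.card ↥(P : Subgroup G) * 2) := by ring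
        _ ≤ sing * (Nat.card ↥(P : Subgroup G) * Nat.card ↥B) := by gcongr
        _ ≤ Nat.card G * Nat.card ↥(P : Subgroup G) := by rw [h]; exact Nat.sub_le _ _
    have h2 := hG.pPrime_upper
    have h3 := hG.two_mul_primeFactors_lt
    have h4 := hG.two_p_lt
    rw [← hpp] at h2
    set m := (p - 1).primeFactors.card
    set g := Nat.card G with hgdef
    have h6 : sing * 2 * p ≤ g * p := Nat.mul_le_mul_right p h1
    have h7 : 2 * m * g + g ≤ p * g := by
      calc 2 * m * g + g = (2 * m + 1) * g := by ring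
        _ ≤ p * g := Nat.mul_le_mul_right g h3
    have h5 : g * (2 * p) = 2 * (pp * p) + sing * 2 * p + 2 * p := by rw [hsplit]; ring
    have h8 : 2 * (pp * p) ≤ 2 * (m * g) := Nat.mul_le_mul_left 2 h2
    linarith
  · -- `W ≠ 1`
    have hME := hG.card_normalizer_type hB hB1 hE hBE hW1
    set w := Nat.card ↥W with hwdef
    set n := (W.subgroupOf (P : Subgroup G)).index with hndef
    have hPnw : Nat.card ↥(P : Subgroup G) = w * n := by
      rw [hwdef, hndef, ← card_mul_index (W.subgroupOf (P : Subgroup G)),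
        Nat.card_congr (subgroupOfEquivOfLe (fixSub_le P B)).toEquiv]
    have hn2 : 2 ≤ n := by
      have h1 : n ≠ 1 := fun h => hWP (le_antisymm (fixSub_le P B) (subgroupOf_eq_top.1 (index_eq_one.1 h)))
      have h2 : n ≠ 0 := index_ne_zero_of_finite
      omega
    have hsum : (Nat.card G * ((Nat.card ↥(P : Subgroup G) - 1) + (Nat.card ↥B - 1) * (n * (w - 1))) : ℕ) ≤
        ((sing : ℚ) * Nat.card ↥N) := by
      rw [hsc, Nat.cast_mul]
      refine mul_le_mul_of_nonneg_left ?_ (Nat.cast_nonneg _)
      rw [← hV, hndef, hwdef, hWdef, ← sum_fix (P := P) (B := B), Finset.mul_sum, ← Finset.card_univ,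
        Finset.card_eq_sum_ones, ← Finset.sum_add_distrib, Nat.cast_sum]
      refine Finset.sum_le_sum fun v _ => ?_
      rw [le_div_iff₀ (hCpos v), mul_comm]
      exact_mod_cast hG.weight_ge hB hB1 v.2.1 v.2.2
    have hsum' : Nat.card G * ((Nat.card ↥(P : Subgroup G) - 1) + (Nat.card ↥B - 1) * (n * (w - 1))) ≤
        sing * Nat.card ↥N := by exact_mod_cast hsum
    have h1 := cover_le hE
    rw [← hpp] at h1
    have hkc : cover E * (Nat.card ↥E * w) = Nat.card G * (Nat.card ↥E - 1) := by
      rw [← hME, ← card_mul_index (normalizer (E : Set G)), cover]; ring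
    have hpe : Nat.card G * (Nat.card ↥E - 1) ≤ pp * (Nat.card ↥E * w) :=
      hkc ▸ Nat.mul_le_mul_right _ h1
    rw [hN, hB.card, hPnw] at hsum'
    have hw1 : 2 ≤ w := W.one_lt_card_iff_ne_bot.2 hW1
    have hgpos : 0 < Nat.card G := Nat.card_pos
    have he := type_card_pos hE
    set g := Nat.card G with hgdef
    set e := Nat.card ↥E with hedef
    set α := Nat.card ↥B with hαdef
    have hwn : 1 ≤ w * n := Nat.one_le_iff_ne_zero.2 (mul_ne_zero (by omega) (by omega))
    zify [(by omega : 1 ≤ e), (by omega : 1 ≤ w), (by omega : 1 ≤ α), hwn] at hsum' hpe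
    have hs : (g : ℤ) = sing + pp + 1 := by exact_mod_cast hsplit
    have hE2 : 2 * (α : ℤ) ≤ e := by exact_mod_cast h2B
    have hn2' : (2 : ℤ) ≤ n := by exact_mod_cast hn2
    have hkey : (α : ℤ) * n ≤ (e : ℤ) * (n - 1) := by
      have h0 : (0 : ℤ) ≤ α := Nat.cast_nonneg α
      have a1 : 2 * (α : ℤ) * (n - 1) ≤ (e : ℤ) * (n - 1) := mul_le_mul_of_nonneg_right hE2 (by linarith)
      have a2 : (α : ℤ) * 2 ≤ α * n := mul_le_mul_of_nonneg_left hn2' h0
      linarith
    have hg0 : (0 : ℤ) ≤ g := Nat.cast_nonneg g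
    have a3 := mul_le_mul_of_nonneg_right hsum' (Nat.cast_nonneg e : (0 : ℤ) ≤ e)
    have a4 := mul_le_mul_of_nonneg_right hpe
      (show (0 : ℤ) ≤ α * n by positivity)
    have a5 := mul_le_mul_of_nonneg_left hkey hg0
    have a6 : (0 : ℤ) < α * n * w * e := by
      have : 0 < α := by omega
      have : 0 < e := by omega
      positivity
    have a7 := congrArg (fun z : ℤ => z * (α * n * w * e)) hs

    linarith

end Min

theorem isSolvable_of_ppAb {p : ℕ} [hp : Fact p.Prime] {G : Type u} [Group G] [Finite G] (h : PPAb p G) :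
    Group.IsSolvable G := by
  induction hn : Nat.card G using Nat.strong_induction_on generalizing G with
  | _ n ih =>
  subst hn
  by_contra hns
  have hsub : ∀ H : Subgroup G, H ≠ ⊤ → Group.IsSolvable ↥H := fun H hH =>
    ih _ (lt_of_le_of_ne (card_le_card_group H) fun e => hH (eq_top_of_card_eq H e)) (h.subgroup H) rfl
  have hnt : Nontrivial G := by
    by_contra h1
    haveI := not_nontrivial_iff_subsingleton.1 h1
    exact hns inferInstance
  have hsimple : IsSimpleGroup G := by
    refine ⟨fun N hN => ?_⟩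
    by_contra hN'
    push Not at hN'
    haveI := hsub N hN'.2
    haveI : Group.IsSolvable (G ⧸ N) := ih _
      (CfsgLib.Techniques.Fusion.card_quotient_lt N hN'.1) (h.quotient N) rfl
    exact hns (Group.isSolvable_of_ker_le_range N.subtype (QuotientGroup.mk' N) (by simp))
  have hnab : ¬ IsMulCommutative G := fun hc => hns (Group.isSolvable_of_comm fun a b => hc.is_comm.comm a b)
  rcases Nat.lt_or_ge p 5 with hlt | hge
  · have hp23 : p = 2 ∨ p = 3 := by
      have h2 := hp.out.two_le
      rcases (show p = 2 ∨ p = 3 ∨ p = 4 by omega) with h | h | h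
      · exact Or.inl h
      · exact Or.inr h
      · subst h; exact absurd hp.out (by norm_num)
    have hq : ∀ q : ℕ, q.Prime → q ∣ Nat.card G → q = p ∨ q ∣ p - 1 := fun q hq hd => by
      haveI := Fact.mk hq
      by_cases hqp : q = p
      · exact Or.inl hqp
      obtain ⟨x, hx⟩ := exists_prime_orderOf_dvd_card' q hd
      refine Or.inr ?_
      rw [← hx]
      refine orderOf_dvd_of_pow_eq_one ((h (zpowers x) ?_).2 x (mem_zpowers x))
      rw [Nat.card_zpowers, hx]
      exact (Nat.coprime_primes hq hp.out).2 hqp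
    have hfac : ∀ q : ℕ, q.Prime → q ∣ Nat.card G → q = 2 ∨ q = 3 := fun q hqpr hd => by
      rcases hq q hqpr hd with rfl | hd'
      · exact hp23
      · refine Or.inl ?_
        have := Nat.le_of_dvd (by omega) hd'
        have := hqpr.two_le
        omega
    refine hns (CfsgLib.Burnside.isSolvable_of_card_eq Nat.prime_two Nat.prime_three
      ((Nat.card G).factorization 2) ((Nat.card G).factorization 3) ?_)
    have h0 : Nat.card G ≠ 0 := Nat.card_pos.ne'
    refine Nat.eq_of_factorization_eq h0 (by positivity) fun q => ?_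
    rw [Nat.factorization_mul (by positivity) (by positivity), Finsupp.add_apply,
      Nat.prime_two.factorization_pow, Nat.prime_three.factorization_pow]
    by_cases hq2 : q = 2
    · subst hq2; simp
    by_cases hq3 : q = 3
    · subst hq3; simp
    simp only [Finsupp.single_eq_of_ne hq2, Finsupp.single_eq_of_ne hq3, add_zero]
    by_contra hne
    have hd := Nat.dvd_of_factorization_pos hne
    have hqpr : q.Prime := by
      by_contra hnp
      exact hne (Nat.factorization_eq_zero_of_not_prime _ hnp)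
    rcases hfac q hqpr hd with h | h
    · exact hq2 h
    · exact hq3 h
  · exact Min.absurd_of_min ⟨hge, h, hsub, hsimple, hnab⟩

end CfsgLib.Techniques.PPA
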