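import Cfsg.Agent.Lib.Techniques.PPrimeAbelian.Setup
import Cfsg.Agent.Lib.Blocks.DualHallHigman
import Cfsg.Agent.Lib.Signalizer.Transitivity

/-!
In the minimal counterexample every proper subgroup has `p`-length one, and the normalizer of a Sylow
`p`-subgroup controls strong fusion.
-/

set_option autoImplicit false
set_option linter.unusedSectionVars false
set_option linter.style.haveILetI false

namespace CfsgLib.Techniques.PPA

open Subgroup Cfsg.Agent.S1954
open scoped commutatorElement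

universe u

variable {p : ℕ}

/-- `O_{p',p}(K)` has index prime to `p`. -/
def Good (p : ℕ) (K : Type u) [Group K] : Prop :=
  ¬ p ∣ (Cfsg.pPrimePCore p K).index

variable [hp : Fact p.Prime] {K : Type u} [Group K] [Finite K]

theorem exists_pow_mem_pPrimeCore {x : K} (hx : x ∈ Cfsg.pPrimePCore p K) :
    ∃ k : ℕ, x ^ p ^ k ∈ Cfsg.pPrimeCore p K := by
  obtain ⟨k, hk⟩ := CfsgLib.PCore.pCore_isPGroup (G := K ⧸ Cfsg.pPrimeCore p K) (p := p)
    ⟨QuotientGroup.mk' _ x, hx⟩
  refine ⟨k, (QuotientGroup.eq_one_iff _).1 ?_⟩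
  have := congrArg Subtype.val hk
  simpa using this

theorem le_pPrimePCore {X : Subgroup K} [X.Normal]
    (h : ∀ x ∈ X, ∃ k : ℕ, x ^ p ^ k ∈ Cfsg.pPrimeCore p K) : X ≤ Cfsg.pPrimePCore p K := by
  refine map_le_iff_le_comap.1 (CfsgLib.PCore.le_pCore
    (Normal.map inferInstance _ (QuotientGroup.mk'_surjective _)) ?_)
  rintro ⟨_, x, hx, rfl⟩
  obtain ⟨k, hk⟩ := h x hx
  refine ⟨k, Subtype.ext ?_⟩
  simpa [← QuotientGroup.mk_pow, QuotientGroup.eq_one_iff] using hk

theorem good_of_not_dvd (h : ¬ p ∣ Nat.card K) : Good p K :=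
  fun hd => h (hd.trans (index_dvd_card _))

theorem Good.of_injective {H : Type u} [Group H] [Finite H] (h : Good p H) (i : K →* H)
    (hi : Function.Injective i) : Good p K := by
  intro hd
  refine h (hd.trans ?_)
  have hle : (Cfsg.pPrimePCore p H).comap i ≤ Cfsg.pPrimePCore p K := by
    refine le_pPrimePCore fun x hx => ?_
    obtain ⟨k, hk⟩ := exists_pow_mem_pPrimeCore (show i x ∈ Cfsg.pPrimePCore p H from hx)
    exact ⟨k, CfsgLib.PCore.comap_pPrimeCore_le i hi (show i (x ^ p ^ k) ∈ _ by rwa [map_pow])⟩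
  refine (index_dvd_of_le hle).trans ?_
  rw [index_comap]
  exact relIndex_dvd_index_of_normal _ _

theorem Good.of_quotient (h : Good p (K ⧸ Cfsg.pPrimeCore p K)) : Good p K := by
  intro hd
  refine h (hd.trans ?_)
  set f := QuotientGroup.mk' (Cfsg.pPrimeCore p K)
  have hle : (Cfsg.pPrimePCore p (K ⧸ Cfsg.pPrimeCore p K)).comap f ≤ Cfsg.pPrimePCore p K := by
    refine le_pPrimePCore fun x hx => ?_
    obtain ⟨k, hk⟩ := exists_pow_mem_pPrimeCore (show f x ∈ Cfsg.pPrimePCore p _ from hx)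
    rw [CfsgLib.PCore.pPrimeCore_quotient_pPrimeCore, mem_bot] at hk
    exact ⟨k, (QuotientGroup.eq_one_iff _).1 (by simpa [f, ← QuotientGroup.mk_pow] using hk)⟩
  refine (index_dvd_of_le hle).trans ?_
  rw [index_comap_of_surjective _ (QuotientGroup.mk'_surjective _)]

theorem Good.of_surjective {H : Type u} [Group H] [Finite H] (h : Good p K) (f : K →* H)
    (hf : Function.Surjective f) : Good p H := by
  intro hd
  refine h (hd.trans ?_)
  have hle : (Cfsg.pPrimePCore p K).map f ≤ Cfsg.pPrimePCore p H := by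
    haveI : ((Cfsg.pPrimePCore p K).map f).Normal :=
      Normal.map inferInstance f hf
    refine le_pPrimePCore ?_
    rintro _ ⟨x, hx, rfl⟩
    obtain ⟨k, hk⟩ := exists_pow_mem_pPrimeCore hx
    exact ⟨k, map_pow f x _ ▸ CfsgLib.PCore.map_pPrimeCore_le f hf (mem_map_of_mem f hk)⟩
  exact (index_dvd_of_le hle).trans (index_map_dvd _ hf)

theorem Good.of_sup {H1 : Subgroup K} (hsup : Cfsg.pPrimeCore p K ⊔ H1 = ⊤) (h : Good p ↥H1) :
    Good p K := by
  refine Good.of_quotient (h.of_surjective ((QuotientGroup.mk' _).comp H1.subtype) fun z => ?_)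
  obtain ⟨x, rfl⟩ := QuotientGroup.mk'_surjective _ z
  obtain ⟨a, ha, b, hb, rfl⟩ := mem_sup_of_normal_left.1 (hsup.ge (mem_top x))
  refine ⟨⟨b, hb⟩, ?_⟩
  rw [map_mul, show QuotientGroup.mk' (Cfsg.pPrimeCore p K) a = 1 from
    (QuotientGroup.eq_one_iff a).2 ha, one_mul]
  rfl

theorem Good.mem_pPrimePCore (h : Good p K) {u : K} (hu : IsPGroup p ↥(zpowers u)) :
    u ∈ Cfsg.pPrimePCore p K := by
  rw [← QuotientGroup.eq_one_iff, ← orderOf_eq_one_iff]
  obtain ⟨k, hk⟩ := IsPGroup.iff_card.1 hu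
  rw [Nat.card_zpowers] at hk
  refine Nat.eq_one_of_dvd_coprimes ((hp.out.coprime_iff_not_dvd.2 h).pow_left k) ?_
    (orderOf_dvd_natCard _)
  exact hk ▸ orderOf_map_dvd (QuotientGroup.mk' (Cfsg.pPrimePCore p K)) u

theorem Good.commutator_mem (h : Good p K) {X : Subgroup K} (hX : (Nat.card ↥X).Coprime p) {u : K}
    (hu : IsPGroup p ↥(zpowers u)) (hn : u ∈ normalizer (X : Set K)) {x : K} (hx : x ∈ X) :
    u * x * u⁻¹ * x⁻¹ ∈ Cfsg.pPrimeCore p K := by
  have huP := h.mem_pPrimePCore hu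
  have hc : u * x * u⁻¹ * x⁻¹ ∈ Cfsg.pPrimePCore p K := by
    rw [mul_assoc u x, mul_assoc]
    exact mul_mem huP ((inferInstance : (Cfsg.pPrimePCore p K).Normal).conj_mem _ (inv_mem huP) x)
  obtain ⟨k, hk⟩ := exists_pow_mem_pPrimeCore hc
  have hcX : u * x * u⁻¹ * x⁻¹ ∈ X := mul_mem ((mem_normalizer_iff.1 hn x).1 hx) (inv_mem hx)
  have hco : (orderOf (u * x * u⁻¹ * x⁻¹)).Coprime (p ^ k) := by
    have hd := orderOf_dvd_natCard (⟨_, hcX⟩ : ↥X)
    rw [Subgroup.orderOf_mk] at hd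
    exact (hX.coprime_dvd_left hd).pow_right k
  obtain ⟨i, j, hij⟩ := Nat.isCoprime_iff_coprime.2 hco
  rw [← zpow_one (u * x * u⁻¹ * x⁻¹), ← hij, zpow_add, mul_comm i, zpow_mul, zpow_natCast,
    pow_orderOf_eq_one, one_zpow, one_mul, mul_comm j, zpow_mul, zpow_natCast]
  exact zpow_mem hk j

/-- Inside a group whose Sylow `p`-subgroup lies in the derived group. -/
theorem good_of_le_commutator [Group.IsSolvable K] (hab : PPAb p K) (P : Sylow p K)
    (hP : (P : Subgroup K) ≤ commutator K) : Good p K := by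
  set O := Cfsg.pPrimeCore p K
  refine Good.of_quotient ?_
  set f := QuotientGroup.mk' O
  show ¬ p ∣ (Cfsg.pPrimePCore p (K ⧸ O)).index
  rw [CfsgLib.PCore.pPrimePCore_eq_pCore CfsgLib.PCore.pPrimeCore_quotient_pPrimeCore]
  set V := Cfsg.pCore p (K ⧸ O)
  set g := (QuotientGroup.mk' V).comp f with hg
  have hgs : Function.Surjective g :=
    (QuotientGroup.mk'_surjective _).comp (QuotientGroup.mk'_surjective _)
  set Y := (K ⧸ O) ⧸ V
  haveI : Group.IsSolvable Y := Group.isSolvable_of_surjective hgs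
  have hY : PPAb p Y := (hab.quotient O).quotient V
  set F := Cfsg.pPrimeCore p Y with hF
  have hCF : centralizer (F : Set Y) ≤ F := CfsgLib.DualHallHigman.centralizer_pPrimeCore_le
    CfsgLib.PCore.isPSolvable_of_isSolvable CfsgLib.PCore.pCore_quotient_pCore
  have hv : ∀ y : Y, (orderOf y).Coprime p → y ∈ F := fun y hy =>
    hCF (hY.mem_centralizer CfsgLib.PCore.pPrimeCore_coprime hy
      (by rw [normalizer_eq_top (H := F)]; exact mem_top y))
  have hZ : IsPGroup p (Y ⧸ F) := by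
    intro z
    obtain ⟨y, rfl⟩ := QuotientGroup.mk'_surjective F z
    obtain ⟨u, v, rfl, -, -, -, hu, hvc⟩ := exists_parts (p := p) y
    obtain ⟨k, hk⟩ := hu ⟨u, mem_zpowers u⟩
    refine ⟨k, ?_⟩
    have hk' : u ^ p ^ k = 1 := by simpa using congrArg Subtype.val hk
    rw [map_mul, show QuotientGroup.mk' F v = 1 from (QuotientGroup.eq_one_iff v).2 (hv v hvc),
      mul_one, ← map_pow, hk', map_one]
  set h := (QuotientGroup.mk' F).comp g
  have hhs : Function.Surjective h := (QuotientGroup.mk'_surjective _).comp hgs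
  have htop : (P.mapSurjective hhs : Subgroup (Y ⧸ F)) = ⊤ :=
    ((P.mapSurjective hhs).3 (Q := ⊤) (hZ.to_subgroup _) le_top).symm
  rw [Sylow.coe_mapSurjective] at htop
  haveI := hZ.isNilpotent
  have hperf : commutator (Y ⧸ F) = ⊤ := by
    refine top_le_iff.1 (htop.ge.trans ((Subgroup.map_mono hP).trans ?_))
    rw [_root_.commutator_def, map_commutator, _root_.commutator_def]
    exact commutator_mono le_top le_top
  have hsub : Subsingleton (Y ⧸ F) := by
    by_contra hns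
    rw [not_subsingleton_iff_nontrivial] at hns
    exact (Group.IsSolvable.commutator_lt_top_of_nontrivial (Y ⧸ F)).ne hperf
  have hFtop : F = ⊤ := QuotientGroup.subsingleton_iff.1 hsub
  rw [index]
  have := CfsgLib.PCore.not_dvd_card_pPrimeCore (p := p) (G := Y)
  rwa [← hF, hFtop, card_top] at this

/-- `p`-constrained factorization `K = O_{p'}(K) N_K(Z(J(P)))`. -/
theorem sup_normalizer_centerJ [Group.IsSolvable K] (hp2 : p ≠ 2) (hfree : AutFree p K) (P : Sylow p K) :
    Cfsg.pPrimeCore p K ⊔ normalizer (CfsgLib.PLocal.centerJ p (P : Subgroup K) : Set K) = ⊤ := by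
  set O := Cfsg.pPrimeCore p K with hO
  set R := Cfsg.pPrimePCore p K with hR
  set W := CfsgLib.PLocal.centerJ p (P : Subgroup K)
  set V := (P : Subgroup K) ⊓ R with hV
  have hVR : V ≤ R := inf_le_right
  have hPW : (P : Subgroup K) ≤ normalizer (W : Set K) := CfsgLib.PLocal.le_normalizer_centerJ p _
  have hRle : R ≤ O ⊔ V := fun x hx => by
    obtain ⟨a, ha, b, hb, rfl⟩ :=
      mem_sup_of_normal_left.1 (CfsgLib.PCore.pPrimePCore_le_sup_sylow P hx)
    refine mul_mem_sup ha (mem_inf.2 ⟨hb, ?_⟩)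
    simpa using mul_mem (inv_mem (CfsgLib.PCore.pPrimeCore_le_pPrimePCore ha)) hx
  have hVi : ¬ p ∣ V.relIndex R := by
    have hR' : R = O ⊔ V := le_antisymm hRle (sup_le CfsgLib.PCore.pPrimeCore_le_pPrimePCore hVR)
    intro hd
    have h1 : Nat.card ↥V * V.relIndex R ∣ Nat.card ↥V * Nat.card ↥O := by
      rw [← relIndex_bot_left V, relIndex_mul_relIndex _ _ _ bot_le hVR, relIndex_bot_left,
        relIndex_bot_left, hR', mul_comm]
      exact CfsgLib.PCore.card_sup_dvd_mul O V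
    exact CfsgLib.PCore.not_dvd_card_pPrimeCore (p := p) (G := K)
      (hd.trans (Nat.dvd_of_mul_dvd_mul_left Nat.card_pos h1))
  refine eq_top_iff.2 fun x _ => ?_
  obtain ⟨c, hc, m, hm', rfl⟩ := Cfsg.Agent.S1954.frattini (X := R) (T := V) le_normalizer le_rfl hVR
    (P.isPGroup'.to_le inf_le_left) hVi (x := x) (by rw [normalizer_eq_top (H := R)]; exact mem_top x)
  refine mul_mem ?_ ?_
  · obtain ⟨a, ha, b, hb, rfl⟩ := mem_sup_of_normal_left.1 (hRle hc)
    exact mul_mem_sup ha (hPW (mem_inf.1 hb).1)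
  obtain ⟨y, hy, d, hd, rfl⟩ := hfree.ctrl_centerJ hp2 P V inf_le_left m
    ((map_conj_eq_self_iff.2 (mem_inf.1 hm').2).le.trans inf_le_left)
  refine mul_mem (mem_sup_right hy) ?_
  have hdR : d ∈ R := by
    refine mem_comap.2 (CfsgLib.PCore.centralizer_pCore_le (G := K ⧸ O)
      CfsgLib.PCore.isPSolvable_of_isSolvable CfsgLib.PCore.pPrimeCore_quotient_pPrimeCore ?_)
    refine mem_centralizer_iff.2 fun z hz => ?_
    have hz' : z ∈ R.map (QuotientGroup.mk' O) := CfsgLib.PCore.map_pPrimePCore.ge hz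
    obtain ⟨w, hw, rfl⟩ := hz'
    obtain ⟨a, ha, b, hb, rfl⟩ := mem_sup_of_normal_left.1 (hRle hw)
    rw [map_mul, show QuotientGroup.mk' O a = 1 from (QuotientGroup.eq_one_iff a).2 ha, one_mul,
      ← map_mul, ← map_mul, mem_centralizer_iff.1 hd b hb]
  obtain ⟨a, ha, b, hb, rfl⟩ := mem_sup_of_normal_left.1 (hRle hdR)
  exact mul_mem_sup ha (hPW (mem_inf.1 hb).1)

namespace Min

variable {G : Type u} [Group G] [Finite G] (hG : Min p G)
include hG

theorem pgroup_solvable {W : Subgroup G} (hW : IsPGroup p ↥W) : Group.IsSolvable ↥W := by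
  haveI := hW.isNilpotent
  infer_instance

theorem good_normalizer_centerJ (P : Sylow p G) :
    Good p ↥(normalizer (CfsgLib.PLocal.centerJ p (P : Subgroup G) : Set G)) := by
  set W := CfsgLib.PLocal.centerJ p (P : Subgroup G) with hW
  set N := normalizer (W : Set G) with hN
  have hPN : (P : Subgroup G) ≤ N := CfsgLib.PLocal.le_normalizer_centerJ p _
  have hPne : (P : Subgroup G) ≠ ⊥ := P.ne_bot_of_dvd_card hG.dvd_card
  have hWne : W ≠ ⊥ := fun h => CfsgLib.Frobenius.ZJComp.zj_ne_bot (Or.inr rfl) P.isPGroup' hPne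
    (le_bot_iff.1 ((CfsgLib.PLocal.omegaOne_le p _).trans (le_of_eq h)))
  haveI : Group.IsSolvable ↥N := hG.sol N (hG.normalizer_ne_top
    (hG.pgroup_solvable (P.isPGroup'.to_le (CfsgLib.PLocal.centerJ_le p _))) hWne)
  have hctl := CfsgLib.Transfer.commutator_inf_eq_of_controls P hPN (fun x hx g hgx => by
    obtain ⟨h, hh, c, hc, rfl⟩ := hG.autFree.ctrl_centerJ hG.p_ne_two P (zpowers x) (zpowers_le.2 hx) g
      (by rw [MonoidHom.map_zpowers]; exact zpowers_le.2 hgx)
    refine ⟨h, hh, ?_⟩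
    have e := mem_centralizer_iff.1 hc x (mem_zpowers x)
    calc h * x * h⁻¹ = h * (x * c) * (c⁻¹ * h⁻¹) := by group
      _ = h * c * x * (h * c)⁻¹ := by rw [e]; group)
  rw [hG.commutator_eq_top, top_inf_eq] at hctl
  refine good_of_le_commutator (hG.ab.subgroup N) (P.subtype hPN) fun x hx => ?_
  rw [Sylow.coe_subtype, mem_subgroupOf] at hx
  have h1 : (x : G) ∈ ⁅N, N⁆ := (mem_inf.1 (hctl.le hx)).1
  rw [← map_subtype_commutator] at h1
  obtain ⟨z, hz, e⟩ := h1
  rwa [show z = x from Subtype.ext e] at hz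

/-- Every proper subgroup has `p`-length one. -/
theorem good {H : Subgroup G} (hH : H ≠ ⊤) : Good p ↥H := by
  classical
  by_contra hbad
  haveI := Fintype.ofFinite (Subgroup G)
  obtain ⟨M, hM, hmax⟩ := Finset.exists_max_image
    (Finset.univ.filter fun K : Subgroup G => K ≠ ⊤ ∧ ¬ Good p ↥K)
    (fun K => (Nat.card ↥K).factorization p) ⟨H, by simp [hH, hbad]⟩
  simp only [Finset.mem_filter, Finset.mem_univ, true_and] at hM hmax
  haveI : Group.IsSolvable ↥M := hG.sol M hM.1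
  obtain ⟨T0⟩ : Nonempty (Sylow p ↥M) := inferInstance
  set T := (T0 : Subgroup ↥M).map M.subtype with hT
  have hTp : IsPGroup p ↥T := T0.isPGroup'.map _
  have hTcard : Nat.card ↥T = p ^ (Nat.card ↥M).factorization p := by
    rw [hT, card_subtype, T0.card_eq_multiplicity]
  set W := CfsgLib.PLocal.centerJ p T with hW
  have hTne : T ≠ ⊥ := fun h => hM.2 (good_of_not_dvd (by
    rw [h, card_bot] at hTcard
    intro hd
    have := hp.out.factorization_pos_of_dvd Nat.card_pos.ne' hd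
    have h2 := Nat.one_lt_pow (Nat.pos_iff_ne_zero.1 this) hp.out.one_lt
    omega))
  have hWne : W ≠ ⊥ := fun h => CfsgLib.Frobenius.ZJComp.zj_ne_bot (Or.inr rfl) hTp hTne
    (le_bot_iff.1 ((CfsgLib.PLocal.omegaOne_le p _).trans (le_of_eq h)))
  set L := normalizer (W : Set G) with hL
  have hLne : L ≠ ⊤ :=
    hG.normalizer_ne_top (hG.pgroup_solvable (hTp.to_le (CfsgLib.PLocal.centerJ_le p _))) hWne
  have hTL : T ≤ L := CfsgLib.PLocal.le_normalizer_centerJ p _
  obtain ⟨S, hS⟩ := hTp.exists_le_sylow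
  have hgoodL : Good p ↥L := by
    rcases eq_or_ne T (S : Subgroup G) with he | hne
    · rw [hL, hW, he]
      exact hG.good_normalizer_centerJ S
    by_contra hb
    have hlt : T < (S : Subgroup G) := lt_of_le_of_ne hS hne
    set U := normalizer (T : Set G) ⊓ (S : Subgroup G) with hU
    have hTU : T < U := lt_of_le_not_ge (le_inf le_normalizer hS)
      (CfsgLib.Signalizer.normalizer_inf_not_le (q := p) S.isPGroup' hlt)
    have hUL : U ≤ L := inf_le_left.trans (CfsgLib.PLocal.normalizer_le_normalizer_centerJ p T)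
    have hUp : IsPGroup p ↥U := S.isPGroup'.to_le inf_le_right
    obtain ⟨k, hk⟩ := IsPGroup.iff_card.1 hUp
    have h1 := hmax L ⟨hLne, hb⟩
    have h2 : k ≤ (Nat.card ↥L).factorization p :=
      (hp.out.pow_dvd_iff_le_factorization Nat.card_pos.ne').1 (hk ▸ card_dvd_of_le hUL)
    have h3 : (Nat.card ↥M).factorization p < k := by
      refine (Nat.pow_lt_pow_iff_right hp.out.one_lt).1 ?_
      rw [← hTcard, ← hk]
      exact lt_of_le_of_ne (card_le_of_le hTU.le)
        fun h => hTU.ne (eq_of_le_of_card_ge hTU.le h.ge)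
    omega
  apply hM.2
  refine Good.of_sup (sup_normalizer_centerJ hG.p_ne_two
    (hG.autFree.of_injective M.subtype M.subtype_injective) T0) ?_
  have hmapW : (CfsgLib.PLocal.centerJ p (T0 : Subgroup ↥M)).map M.subtype = W :=
    (CfsgLib.PLocal.centerJ_map (e := p) M.subtype_injective (T0 : Subgroup ↥M)).symm
  refine hgoodL.of_injective ((M.subtype.comp (Subgroup.subtype _)).codRestrict L fun x => ?_)
    fun a b hab => Subtype.ext (Subtype.ext (by simpa using congrArg Subtype.val hab))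
  have h := le_normalizer_map (H := CfsgLib.PLocal.centerJ p (T0 : Subgroup ↥M)) M.subtype
    (mem_map_of_mem M.subtype x.2)
  rwa [hmapW] at h

/-- The normalizer of a Sylow `p`-subgroup controls strong fusion in it. -/
theorem sylow_ctrl (P : Sylow p G) (A : Subgroup G) (hA : A ≤ (P : Subgroup G)) (g : G)
    (hg : A.map (MulAut.conj g).toMonoidHom ≤ (P : Subgroup G)) :
    Ctrl ((P : Subgroup G)) A g := by
  set W := CfsgLib.PLocal.centerJ p (P : Subgroup G) with hW
  set N := normalizer (W : Set G) with hN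
  obtain ⟨h, hh, c, hc, rfl⟩ := hG.autFree.ctrl_centerJ hG.p_ne_two P A hA g hg
  have hgood := hG.good_normalizer_centerJ P
  have hPN : (P : Subgroup G) ≤ N := CfsgLib.PLocal.le_normalizer_centerJ p _
  set P' := P.subtype hPN with hP'
  have hcore : ∀ y ∈ (P' : Subgroup ↥N), y ∈ Cfsg.pPrimePCore p ↥N := fun y hy =>
    hgood.mem_pPrimePCore (P'.isPGroup'.to_le (zpowers_le.2 hy))
  have hRi : ¬ p ∣ (P' : Subgroup ↥N).relIndex (Cfsg.pPrimePCore p ↥N) := fun hd =>
    P'.not_dvd_index (hd.trans (Dvd.intro _ (relIndex_mul_index fun y hy => hcore y hy)))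
  obtain ⟨r, hr, m, hm', e⟩ := Cfsg.Agent.S1954.frattini (X := Cfsg.pPrimePCore p ↥N) (T := (P' : Subgroup ↥N))
    le_normalizer le_rfl (fun y hy => hcore y hy) P'.isPGroup' hRi (x := (⟨h, hh⟩ : ↥N))
    (by rw [normalizer_eq_top (H := Cfsg.pPrimePCore p ↥N)]; exact mem_top _)
  obtain ⟨o, ho, v, hv, rfl⟩ :=
    mem_sup_of_normal_left.1 (CfsgLib.PCore.pPrimePCore_le_sup_sylow P' hr)
  have hvm : v * m ∈ normalizer ((P' : Subgroup ↥N) : Set ↥N) := mul_mem (le_normalizer hv) (mem_inf.1 hm').2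
  have hmG : ((v * m : ↥N) : G) ∈ normalizer ((P : Subgroup G) : Set G) := by
    rw [mem_normalizer_iff]
    intro y
    constructor
    · intro hy
      have := (mem_normalizer_iff.1 hvm ⟨y, hPN hy⟩).1 (by rw [Sylow.coe_subtype]; exact hy)
      rw [Sylow.coe_subtype] at this
      exact mem_subgroupOf.1 this
    · intro hy
      have hyN : y ∈ N := by
        have := mul_mem (mul_mem (inv_mem (v * m : ↥N).2) (hPN hy)) (v * m : ↥N).2
        simpa [mul_assoc] using this
      have := (mem_normalizer_iff.1 hvm ⟨y, hyN⟩).2 (by rw [Sylow.coe_subtype]; exact mem_subgroupOf.2 hy)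
      rw [Sylow.coe_subtype] at this
      exact this
  have he : h = (o : G) * ((v * m : ↥N) : G) := by
    rw [← Subgroup.coe_mul, ← mul_assoc, ← e]
  refine ⟨_, hmG, ((v * m : ↥N) : G)⁻¹ * o * ((v * m : ↥N) : G) * c, ?_, by rw [he]; group⟩
  refine mem_centralizer_iff.2 fun a ha => ?_
  have hca : c * a * c⁻¹ = a := by rw [← mem_centralizer_iff.1 hc a ha, mul_inv_cancel_right]
  set k := ((v * m : ↥N) : G) with hk
  have hb : k * a * k⁻¹ ∈ (P : Subgroup G) := (mem_normalizer_iff.1 hmG a).1 (hA ha)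
  have hob : (o : G) * (k * a * k⁻¹) * (o : G)⁻¹ ∈ (P : Subgroup G) := by
    have h1 := hg (mem_map_of_mem _ ha)
    have h2 : (MulAut.conj (h * c)).toMonoidHom a = (o : G) * (k * a * k⁻¹) * (o : G)⁻¹ := by
      simp only [MulEquiv.coe_toMonoidHom, MulAut.conj_apply]
      calc h * c * a * (h * c)⁻¹ = h * (c * a * c⁻¹) * h⁻¹ := by group
        _ = _ := by rw [hca, he]; group
    rwa [h2] at h1
  have hbN : k * a * k⁻¹ ∈ N := hPN hb
  have hcomm : o * ⟨_, hbN⟩ * o⁻¹ * (⟨_, hbN⟩ : ↥N)⁻¹ = 1 := by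
    set z := o * ⟨_, hbN⟩ * o⁻¹ * (⟨_, hbN⟩ : ↥N)⁻¹ with hz
    have hzO : z ∈ Cfsg.pPrimeCore p ↥N := by
      rw [hz, mul_assoc, mul_assoc, ← mul_assoc (⟨_, hbN⟩ : ↥N)]
      exact mul_mem ho ((inferInstance : (Cfsg.pPrimeCore p ↥N).Normal).conj_mem _ (inv_mem ho) _)
    have hzP : z ∈ (P' : Subgroup ↥N) := by
      rw [Sylow.coe_subtype, mem_subgroupOf]
      exact mul_mem hob (inv_mem hb)
    have hbot := CfsgLib.PCore.inf_eq_bot_of_isPGroup_coprime (p := p)
      (A := (P' : Subgroup ↥N)) (B := Cfsg.pPrimeCore p ↥N) P'.isPGroup'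
      CfsgLib.PCore.pPrimeCore_coprime
    exact mem_bot.1 (hbot.le (mem_inf.2 ⟨hzP, hzO⟩))
  have hcG : (o : G) * (k * a * k⁻¹) * (o : G)⁻¹ = k * a * k⁻¹ :=
    mul_inv_eq_one.1 (congrArg Subtype.val hcomm)
  calc a * (k⁻¹ * o * k * c) = k⁻¹ * ((k * a * k⁻¹) * o) * k * c := by group
    _ = k⁻¹ * ((o : G) * (k * a * k⁻¹) * (o : G)⁻¹ * o) * k * c := by rw [hcG]
    _ = k⁻¹ * o * k * (a * c) := by group
    _ = k⁻¹ * o * k * c * a := by rw [mem_centralizer_iff.1 hc a ha]; group

/-- The Sylow `p`-subgroup lies in the derived group of its normalizer. -/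
theorem le_commutator_normalizer (P : Sylow p G) :
    (P : Subgroup G) ≤ ⁅normalizer ((P : Subgroup G) : Set G), normalizer ((P : Subgroup G) : Set G)⁆ := by
  have hctl := CfsgLib.Transfer.commutator_inf_eq_of_controls P le_normalizer (fun x hx g hgx => by
    obtain ⟨h, hh, c, hc, rfl⟩ := hG.sylow_ctrl P (zpowers x) (zpowers_le.2 hx) g
      (by rw [MonoidHom.map_zpowers]; exact zpowers_le.2 hgx)
    refine ⟨h, hh, ?_⟩
    have e := mem_centralizer_iff.1 hc x (mem_zpowers x)
    calc h * x * h⁻¹ = h * (x * c) * (c⁻¹ * h⁻¹) := by group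
      _ = h * c * x * (h * c)⁻¹ := by rw [e]; group)
  rw [hG.commutator_eq_top, top_inf_eq] at hctl
  exact fun x hx => (mem_inf.1 (hctl.le hx)).1

end Min

end CfsgLib.Techniques.PPA
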