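import Cfsg.Agent.Lib.Techniques.PPrimeAbelian.Setup

/-!
The elements of order dividing `q` of an abelian Sylow `q`-subgroup, `q ≠ p`: their number is at least `q ^ 3`.
-/

set_option autoImplicit false
set_option linter.unusedSectionVars false
set_option linter.style.haveILetI false

namespace CfsgLib.Techniques.PPA

open Subgroup
open scoped commutatorElement

universe u

variable {G : Type u} [Group G]

/-- The elements `x ∈ Q` with `x ^ q = 1`, as a subgroup. -/
def om (q : ℕ) (Q : Subgroup G) : Subgroup G :=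
  closure {x | x ∈ Q ∧ x ^ q = 1}

theorem om_le (q : ℕ) (Q : Subgroup G) : om q Q ≤ Q :=
  (closure_le _).2 fun _ hx => hx.1

theorem mem_om (q : ℕ) {Q : Subgroup G} (hc : IsMulCommutative ↥Q) {x : G} :
    x ∈ om q Q ↔ x ∈ Q ∧ x ^ q = 1 := by
  refine ⟨fun h => ⟨om_le q Q h, ?_⟩, fun h => subset_closure h⟩
  induction h using closure_induction with
  | mem y hy => exact hy.2
  | one => rw [one_pow]
  | mul y z hy hz iy iz =>
    have hyz : Commute y z := congrArg Subtype.val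
      (hc.is_comm.comm ⟨y, om_le q Q hy⟩ ⟨z, om_le q Q hz⟩)
    rw [hyz.mul_pow, iy, iz, one_mul]
  | inv y hy iy => rw [inv_pow, iy, inv_one]

theorem om_isElementaryAbelian (q : ℕ) {Q : Subgroup G} (hc : IsMulCommutative ↥Q) :
    Cfsg.IsElementaryAbelian q (om q Q) :=
  ⟨⟨⟨fun a b => Subtype.ext (congrArg Subtype.val (α := ↥Q)
    (hc.is_comm.comm ⟨a, om_le q Q a.2⟩ ⟨b, om_le q Q b.2⟩))⟩⟩, fun a ha => ((mem_om q hc).1 ha).2⟩

theorem conj_mem_om (q : ℕ) {Q : Subgroup G} {g : G} {R : Subgroup G}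
    (h : ∀ x ∈ Q, g * x * g⁻¹ ∈ R) {x : G} (hx : x ∈ om q Q) : g * x * g⁻¹ ∈ om q R := by
  have : (om q Q).map (MulAut.conj g).toMonoidHom ≤ om q R := by
    rw [om, MonoidHom.map_closure, closure_le]
    rintro _ ⟨y, ⟨hy, hyq⟩, rfl⟩
    refine subset_closure ⟨by simpa using h y hy, ?_⟩
    rw [← map_pow, hyq, map_one]
  exact this ⟨x, hx, by simp⟩

theorem normalizer_le_normalizer_om [Finite G] (q : ℕ) (Q : Subgroup G) :
    normalizer (Q : Set G) ≤ normalizer (om q Q : Set G) :=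
  le_normalizer_iff.2 fun _ hn _ hx => conj_mem_om q (fun y hy => (mem_normalizer_iff.1 hn y).1 hy) hx

/-- An element of order prime to `q` fixing all elements of order `q` of an abelian `q`-group fixes it. -/
theorem mem_centralizer_of_fixes_om [Finite G] {q : ℕ} [hq : Fact q.Prime] {Q : Subgroup G}
    (hQ : IsPGroup q ↥Q) (hc : IsMulCommutative ↥Q) {u : G} (hu : (orderOf u).Coprime q)
    (hn : ∀ x ∈ Q, u * x * u⁻¹ ∈ Q) (hfix : ∀ a ∈ om q Q, u * a * u⁻¹ = a) :
    u ∈ centralizer (Q : Set G) := by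
  suffices h : ∀ k : ℕ, ∀ x ∈ Q, x ^ q ^ k = 1 → u * x * u⁻¹ = x by
    refine mem_centralizer_iff.2 fun x hx => ?_
    obtain ⟨k, hk⟩ := hQ ⟨x, hx⟩
    have := h k x hx (by simpa using congrArg Subtype.val hk)
    calc x * u = u * x * u⁻¹ * u := by rw [this]
      _ = u * x := by group
  intro k
  induction k with
  | zero =>
    intro x _ hx
    rw [pow_zero, pow_one] at hx
    rw [hx, mul_one, mul_inv_cancel]
  | succ k ih =>
    intro x hx hxk
    have h1 : u * x ^ q * u⁻¹ = x ^ q :=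
      ih _ (pow_mem hx q) (by rw [← pow_mul, ← pow_succ']; exact hxk)
    obtain ⟨c, hcdef⟩ : ∃ c, c = u * x * u⁻¹ * x⁻¹ := ⟨_, rfl⟩
    have hcQ : c ∈ Q := hcdef ▸ mul_mem (hn x hx) (inv_mem hx)
    have hcomm : Commute (u * x * u⁻¹) x⁻¹ := congrArg Subtype.val
      (hc.is_comm.comm ⟨_, hn x hx⟩ ⟨_, inv_mem hx⟩)
    have hcq : c ^ q = 1 := by
      rw [hcdef, hcomm.mul_pow, conj_pow, h1, inv_pow, mul_inv_cancel]
    have hcf : u * c * u⁻¹ = c := hfix c ((mem_om q hc).2 ⟨hcQ, hcq⟩)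
    have hiter : ∀ m : ℕ, u ^ m * x * (u ^ m)⁻¹ = c ^ m * x := by
      intro m
      induction m with
      | zero => simp
      | succ m ihm =>
        calc u ^ (m + 1) * x * (u ^ (m + 1))⁻¹ = u * (u ^ m * x * (u ^ m)⁻¹) * u⁻¹ := by
              rw [pow_succ', mul_inv_rev]; group
          _ = u * (c ^ m * x) * u⁻¹ := by rw [ihm]
          _ = (u * c * u⁻¹) ^ m * (u * x * u⁻¹) := by rw [conj_pow]; group
          _ = c ^ m * (c * x) := by
              rw [hcf, show c * x = u * x * u⁻¹ by rw [hcdef, inv_mul_cancel_right]]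
          _ = c ^ (m + 1) * x := by rw [pow_succ, mul_assoc]
    have hm := hiter (orderOf u)
    rw [pow_orderOf_eq_one, one_mul, inv_one, mul_one, eq_comm, mul_eq_right] at hm
    have : orderOf c = 1 := Nat.eq_one_of_dvd_coprimes hu (orderOf_dvd_of_pow_eq_one hm)
      (orderOf_dvd_of_pow_eq_one hcq)
    rw [orderOf_eq_one_iff, hcdef, mul_inv_eq_one] at this
    exact this

variable {p : ℕ} [hp : Fact p.Prime] [Finite G]

namespace Min

variable (hG : Min p G) {q : ℕ} [hq : Fact q.Prime] (hqp : q ≠ p)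
include hG hqp

theorem coprime_of_isPGroup {X : Subgroup G} (hX : IsPGroup q ↥X) : (Nat.card ↥X).Coprime p := by
  obtain ⟨k, hk⟩ := IsPGroup.iff_card.1 hX
  rw [hk]
  exact ((Nat.coprime_primes hq.out hp.out).2 hqp).pow_left k

theorem sylow_comm (Q : Sylow q G) : IsMulCommutative ↥(Q : Subgroup G) :=
  (hG.ab _ (hG.coprime_of_isPGroup hqp Q.isPGroup')).1

/-- Fusion in an abelian Sylow subgroup is controlled by its normalizer. -/
theorem sylow_fusion (Q : Sylow q G) : ∀ x ∈ (Q : Subgroup G), ∀ g : G, g * x * g⁻¹ ∈ (Q : Subgroup G) →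
    ∃ k ∈ normalizer ((Q : Subgroup G) : Set G), k * x * k⁻¹ = g * x * g⁻¹ := by
  intro x hx g hgx
  haveI := hG.sylow_comm hqp Q
  have hle : ∀ y ∈ (Q : Subgroup G), (Q : Subgroup G) ≤ centralizer ({y} : Set G) := fun y hy z hz =>
    mem_centralizer_singleton_iff.2 (congrArg Subtype.val
      ((hG.sylow_comm hqp Q).is_comm.comm ⟨z, hz⟩ ⟨y, hy⟩))
  obtain ⟨n, hn, he⟩ := Sylow.conj_eq_normalizer_conj_of_mem Q x g⁻¹ hx
    (by rw [inv_inv]; exact hgx)
  exact ⟨n⁻¹, inv_mem hn, by simpa using he.symm⟩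

/-- Transfer: no nontrivial element of an abelian Sylow subgroup is central in its normalizer. -/
theorem sylow_eq_one_of_fixed (Q : Sylow q G) {y : G} (hy : y ∈ (Q : Subgroup G))
    (hcen : ∀ n ∈ normalizer ((Q : Subgroup G) : Set G), n * y * n⁻¹ = y) : y = 1 := by
  set N := normalizer ((Q : Subgroup G) : Set G) with hN
  have h := CfsgLib.Transfer.commutator_inf_eq_of_controls Q (le_normalizer) (hG.sylow_fusion hqp Q)
  rw [hG.commutator_eq_top, top_inf_eq] at h
  have hyN : y ∈ N := le_normalizer hy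
  have hd : (⟨y, hyN⟩ : ↥N) ∈ commutator ↥N := by
    have h1 : y ∈ ⁅N, N⁆ := (mem_inf.1 (h.le hy)).1
    rw [← map_subtype_commutator] at h1
    obtain ⟨z, hz, e⟩ := h1
    rwa [show z = ⟨y, hyN⟩ from Subtype.ext e] at hz
  have hc : IsMulCommutative ↥((Q : Subgroup G).subgroupOf N) := by
    have := hG.sylow_comm hqp Q
    exact ⟨⟨fun a b => Subtype.ext (Subtype.ext (congrArg Subtype.val (α := ↥(Q : Subgroup G))
      (this.is_comm.comm ⟨_, mem_subgroupOf.1 a.2⟩ ⟨_, mem_subgroupOf.1 b.2⟩)))⟩⟩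
  have hHall : Nat.Coprime (Nat.card ↥((Q : Subgroup G).subgroupOf N))
      ((Q : Subgroup G).subgroupOf N).index := by
    obtain ⟨k, hk⟩ := IsPGroup.iff_card.1 ((Q.isPGroup').comap_subtype (K := N))
    rw [show Nat.card ↥((Q : Subgroup G).subgroupOf N) = q ^ k from hk]
    refine Nat.Coprime.pow_left k ((hq.out.coprime_iff_not_dvd).2 fun hd => Q.not_dvd_index ?_)
    exact hd.trans (Dvd.intro _ (relIndex_mul_index le_normalizer))
  have := CfsgLib.Transfer.eq_one_of_central_commutator _ hc hHall (mem_subgroupOf.2 hy) hd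
    (mem_center_iff.2 fun n => Subtype.ext (by
      show (n : G) * y = y * n
      conv_rhs => rw [← hcen n n.2]
      group))
  exact congrArg Subtype.val this

/-- The normalizer of a Sylow subgroup acts without trivial factors on each invariant subgroup. -/
theorem le_of_trivial_mod (Q : Sylow q G) {X X0 : Subgroup G} (hX : X ≤ (Q : Subgroup G))
    (h : ∀ n ∈ normalizer ((Q : Subgroup G) : Set G), ∀ x ∈ X, n * x * n⁻¹ * x⁻¹ ∈ X0) : X ≤ X0 := by
  classical
  intro x hx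
  set N := normalizer ((Q : Subgroup G) : Set G) with hN
  set C := (centralizer ((Q : Subgroup G) : Set G)).subgroupOf N with hC
  haveI hcm := hG.sylow_comm hqp Q
  letI : CommGroup ↥(Q : Subgroup G) :=
    { (inferInstance : Group ↥(Q : Subgroup G)) with mul_comm := hcm.is_comm.comm }
  haveI := Fintype.ofFinite (↥N ⧸ C)
  have hQN : ∀ (n : ↥N), ∀ y ∈ (Q : Subgroup G), (n : G) * y * (n : G)⁻¹ ∈ (Q : Subgroup G) :=
    fun n y hy => (mem_normalizer_iff.1 n.2 y).1 hy
  let cj : ↥N → (↥(Q : Subgroup G) →* ↥(Q : Subgroup G)) := fun n =>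
    { toFun := fun y => ⟨(n : G) * y * (n : G)⁻¹, hQN n y y.2⟩
      map_one' := Subtype.ext (by simp)
      map_mul' := fun a b => Subtype.ext (by simp [mul_assoc]) }
  let x' : ↥(Q : Subgroup G) := ⟨x, hX hx⟩
  let θ : ↥(Q : Subgroup G) := ∏ c : ↥N ⧸ C, cj c.out x'
  have hinv : ∀ n : ↥N, cj n θ = θ := by
    intro n
    rw [show cj n θ = ∏ c : ↥N ⧸ C, cj n (cj c.out x') from map_prod _ _ _]
    refine Fintype.prod_equiv (MulAction.toPerm n) _ _ fun c => ?_
    obtain ⟨d, hd⟩ := QuotientGroup.mk_out_eq_mul C (n * c.out)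
    have e : MulAction.toPerm n c = (QuotientGroup.mk (n * c.out) : ↥N ⧸ C) := by
      rw [MulAction.toPerm_apply, ← smul_eq_mul n c.out, ← MulAction.Quotient.smul_mk,
        QuotientGroup.out_eq']
    rw [e, hd]
    refine Subtype.ext ?_
    have hdc : ((d : ↥N) : G) * x = x * ((d : ↥N) : G) :=
      (mem_centralizer_iff.1 (mem_subgroupOf.1 d.2) x (hX hx)).symm
    show (n : G) * ((c.out : ↥N) * x * ((c.out : ↥N) : G)⁻¹) * (n : G)⁻¹ =
      ((n * c.out * (d : ↥N) : ↥N) : G) * x * ((n * c.out * (d : ↥N) : ↥N) : G)⁻¹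
    rw [Subgroup.coe_mul, Subgroup.coe_mul]
    calc (n : G) * ((c.out : ↥N) * x * ((c.out : ↥N) : G)⁻¹) * (n : G)⁻¹
        = (n : G) * (c.out : ↥N) * (x * (d : ↥N)) * ((d : ↥N) : G)⁻¹ * ((c.out : ↥N) : G)⁻¹ *
            (n : G)⁻¹ := by group
      _ = _ := by rw [← hdc]; group
  have hθ : (θ : G) = 1 := hG.sylow_eq_one_of_fixed hqp Q θ.2 fun n hn =>
    congrArg Subtype.val (hinv ⟨n, hn⟩)
  have hpow : x ^ Nat.card (↥N ⧸ C) ∈ X0 := by
    have h1 : θ * (x' ^ Nat.card (↥N ⧸ C))⁻¹ ∈ X0.subgroupOf (Q : Subgroup G) := by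
      rw [show Nat.card (↥N ⧸ C) = (Finset.univ : Finset (↥N ⧸ C)).card from Nat.card_eq_fintype_card,
        ← Finset.prod_const, ← Finset.prod_inv_distrib, ← Finset.prod_mul_distrib]
      exact prod_mem fun c _ => mem_subgroupOf.2 (h _ (c.out).2 x hx)
    have h2 := mem_subgroupOf.1 h1
    rw [Subgroup.coe_mul, hθ, one_mul, Subgroup.coe_inv, inv_mem_iff, SubmonoidClass.coe_pow] at h2
    exact h2
  obtain ⟨k, hk⟩ := Q.isPGroup' ⟨x, hX hx⟩
  have hxk : x ^ q ^ k = 1 := by simpa using congrArg Subtype.val hk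
  have hcop : (q ^ k).Coprime (Nat.card (↥N ⧸ C)) := by
    refine Nat.Coprime.pow_left k (hq.out.coprime_iff_not_dvd.2 fun hd => Q.not_dvd_index ?_)
    have hle : (Q : Subgroup G) ≤ centralizer ((Q : Subgroup G) : Set G) := fun y hy =>
      mem_centralizer_iff.2 fun z hz => congrArg Subtype.val (hcm.is_comm.comm ⟨z, hz⟩ ⟨y, hy⟩)
    refine hd.trans (dvd_trans ?_ (Dvd.intro _ (relIndex_mul_index (le_normalizer : (Q : Subgroup G) ≤ N))))
    exact index_dvd_of_le fun y hy => mem_subgroupOf.2 (hle (mem_subgroupOf.1 hy))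
  obtain ⟨i, j, hij⟩ : IsCoprime ((q ^ k : ℕ) : ℤ) ((Nat.card (↥N ⧸ C) : ℕ) : ℤ) :=
    Nat.isCoprime_iff_coprime.2 hcop
  rw [← zpow_one x, ← hij, zpow_add, mul_comm i, zpow_mul, zpow_natCast, hxk, one_zpow, one_mul,
    mul_comm j, zpow_mul, zpow_natCast]
  exact zpow_mem hpow j

/-- An abelian Sylow `q`-subgroup of the minimal counterexample is moved by some `p`-element. -/
theorem exists_pElement_not_centralizing (Q : Sylow q G) (hQ : (Q : Subgroup G) ≠ ⊥) :
    ∃ u ∈ normalizer ((Q : Subgroup G) : Set G), IsPGroup p ↥(zpowers u) ∧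
      u ∉ centralizer ((Q : Subgroup G) : Set G) := by
  by_contra hne
  push Not at hne
  refine hQ (le_bot_iff.1 (hG.le_of_trivial_mod hqp Q le_rfl
    fun n hn x hx => ?_))
  obtain ⟨u, v, e, -, hu, hv, hup, hvp⟩ := exists_parts (p := p) n
  have huN := zpowers_le.2 hn hu
  have hvN := zpowers_le.2 hn hv
  have hcen : n ∈ centralizer ((Q : Subgroup G) : Set G) := e ▸ mul_mem (hne u huN hup)
    (hG.ab.mem_centralizer (hG.coprime_of_isPGroup hqp Q.isPGroup') hvp hvN)
  rw [mem_bot, mul_inv_eq_one, mul_inv_eq_iff_eq_mul]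
  exact (mem_centralizer_iff.1 hcen x hx).symm

/-- The `q`-rank is at least three. -/
theorem three_le_rank (Q : Sylow q G) (hQ : (Q : Subgroup G) ≠ ⊥) :
    q ^ 3 ≤ Nat.card ↥(om q (Q : Subgroup G)) := by
  obtain ⟨u, hu, hup, huQ⟩ := hG.exists_pElement_not_centralizing hqp Q hQ
  have hcQ := hG.sylow_comm hqp Q
  set A := om q (Q : Subgroup G) with hA
  have hAn : ∀ z ∈ zpowers u, ∀ a ∈ A, z * a * z⁻¹ ∈ A := fun z hz a ha =>
    conj_mem_om q (fun y hy => (mem_normalizer_iff.1 (zpowers_le.2 hu hz) y).1 hy) ha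
  letI : MulAction ↥(zpowers u) ↥A :=
    { smul := fun z a => ⟨(z : G) * a * (z : G)⁻¹, hAn z z.2 a a.2⟩
      one_smul := fun a => Subtype.ext (show ((1 : ↥(zpowers u)) : G) * a * _⁻¹ = a by simp)
      mul_smul := fun z w a => Subtype.ext (show ((z * w : ↥(zpowers u)) : G) * a * _⁻¹ =
        (z : G) * ((w : G) * a * (w : G)⁻¹) * (z : G)⁻¹ by simp [mul_assoc]) }
  have hmod := hup.card_modEq_card_fixedPoints ↥A
  set C := A ⊓ centralizer ({u} : Set G) with hC
  have hfix : Nat.card ↥(MulAction.fixedPoints ↥(zpowers u) ↥A) = Nat.card ↥C := by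
    refine Nat.card_congr
      { toFun := fun a => ⟨a.1.1, mem_inf.2 ⟨a.1.2, mem_centralizer_singleton_iff.2 ?_⟩⟩
        invFun := fun c => ⟨⟨c.1, (mem_inf.1 c.2).1⟩, fun z => Subtype.ext ?_⟩
        left_inv := fun a => rfl
        right_inv := fun c => rfl }
    · have h1 : u * (a.1.1 : G) * u⁻¹ = a.1.1 := congrArg Subtype.val (a.2 ⟨u, mem_zpowers u⟩)
      exact (mul_inv_eq_iff_eq_mul.1 h1).symm
    · have hc : Commute (c : G) u := mem_centralizer_singleton_iff.1 (mem_inf.1 c.2).2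
      obtain ⟨i, hi⟩ := mem_zpowers_iff.1 z.2
      show (z : G) * c * (z : G)⁻¹ = c
      rw [← hi, mul_inv_eq_iff_eq_mul]
      exact (hc.zpow_right i).eq.symm
  rw [hfix] at hmod
  have hAp : IsPGroup q ↥A := Q.isPGroup'.to_le (om_le _ _)
  obtain ⟨r, hr⟩ := IsPGroup.iff_card.1 hAp
  obtain ⟨s, hs⟩ := IsPGroup.iff_card.1 (hAp.to_le (inf_le_left : C ≤ A))
  have hlt : s < r := by
    rcases lt_or_ge s r with h | h
    · exact h
    exfalso
    have hCA : C = A := Subgroup.eq_of_le_of_card_ge inf_le_left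
      (by rw [hr, hs]; exact Nat.pow_le_pow_right hq.out.pos h)
    refine huQ (mem_centralizer_of_fixes_om Q.isPGroup' hcQ ?_
      (fun y hy => (mem_normalizer_iff.1 hu y).1 hy) fun a ha => ?_)
    · obtain ⟨k, hk⟩ := IsPGroup.iff_card.1 hup
      rw [Nat.card_zpowers] at hk
      rw [hk]
      exact ((Nat.coprime_primes hp.out hq.out).2 (Ne.symm hqp)).pow_left k
    · rw [mul_inv_eq_iff_eq_mul]
      exact (mem_centralizer_singleton_iff.1 (mem_inf.1 (hCA.ge ha)).2).symm
  rw [hr, hs] at hmod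
  have hd : p ∣ q ^ (r - s) - 1 := by
    have hmul : q ^ s * 1 ≡ q ^ s * q ^ (r - s) [MOD p] := by
      rw [mul_one, ← pow_add, Nat.add_sub_cancel' hlt.le]
      exact hmod.symm
    have := Nat.ModEq.cancel_left_of_coprime
      (((Nat.coprime_primes hp.out hq.out).2 (Ne.symm hqp)).pow_right s) hmul
    exact (Nat.modEq_iff_dvd' (Nat.one_le_pow _ _ hq.out.pos)).1 this
  rw [hr]
  refine Nat.pow_le_pow_right hq.out.pos ?_
  by_contra hlt3
  have hp5 := hG.ge5
  have hne : (Q : Subgroup G) ≠ ⊥ := hQ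
  have hqd : q ∣ Nat.card G := by
    obtain ⟨k, hk⟩ := IsPGroup.iff_card.1 Q.isPGroup'
    rcases Nat.eq_zero_or_pos k with rfl | hk0
    · exact absurd (card_eq_one.1 (by simpa using hk)) hne
    · exact (dvd_pow_self q hk0.ne').trans (hk ▸ card_subgroup_dvd_card _)
  have hle := Nat.le_of_dvd (by omega) (hG.dvd_pred hqp hqd)
  have h2 := hq.out.two_le
  obtain h | h : r - s = 1 ∨ r - s = 2 := by omega
  · rw [h, pow_one] at hd
    exact absurd (Nat.le_of_dvd (by omega) hd) (by omega)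
  · rw [h, show q ^ 2 - 1 = (q - 1) * (q + 1) by
      rcases q with _ | m
      · rfl
      · simp only [Nat.add_sub_cancel]; ring_nf; omega] at hd
    rcases hp.out.dvd_mul.1 hd with h' | h'
    · exact absurd (Nat.le_of_dvd (by omega) h') (by omega)
    · have hpq : q + 1 = p := le_antisymm (by omega) (Nat.le_of_dvd (by omega) h')
      rcases hq.out.eq_two_or_odd with h2' | h2'
      · omega
      · have := hp.out.eq_two_or_odd
        omega

end Min

end CfsgLib.Techniques.PPA
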