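import Cfsg.Agent.Lib.Techniques.PPrimeAbelian.Singular

/-!
The complement `B` of `P` in its normalizer, and the weight of each element of `P`.
-/

set_option autoImplicit false
set_option linter.unusedSectionVars false
set_option linter.style.haveILetI false

namespace CfsgLib.Techniques.PPA

open Subgroup
open scoped commutatorElement Pointwise

universe u

variable {G : Type u} [Group G] [Finite G] {p : ℕ} [hp : Fact p.Prime]

theorem orderOf_dvd_card_of_mem {H : Subgroup G} {x : G} (hx : x ∈ H) : orderOf x ∣ Nat.card ↥H := by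
  rw [← Subgroup.orderOf_mk x hx]; exact orderOf_dvd_natCard _

/-- A complement of a Sylow `p`-subgroup in its normalizer. -/
structure IsNComp (P : Sylow p G) (B : Subgroup G) : Prop where
  le : B ≤ normalizer ((P : Subgroup G) : Set G)
  coprime : (Nat.card ↥B).Coprime p
  sup : B ⊔ (P : Subgroup G) = normalizer ((P : Subgroup G) : Set G)
  card : Nat.card ↥(normalizer ((P : Subgroup G) : Set G)) =
    Nat.card ↥(P : Subgroup G) * Nat.card ↥B

theorem exists_isNComp (P : Sylow p G) : ∃ B, IsNComp P B := by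
  set N := normalizer ((P : Subgroup G) : Set G)
  set P' := (P : Subgroup G).subgroupOf N
  have hn : P'.Normal := normal_subgroupOf_of_le_normalizer le_rfl
  have hpg : IsPGroup p ↥P' := P.isPGroup'.comap_subtype
  obtain ⟨k, hk⟩ := IsPGroup.iff_card.1 hpg
  have hnd : ¬ p ∣ P'.index := fun hd =>
    P.not_dvd_index (hd.trans (Dvd.intro _ (relIndex_mul_index le_normalizer)))
  have hcop : (Nat.card ↥P').Coprime P'.index := by
    rw [hk]; exact (hp.out.coprime_iff_not_dvd.2 hnd).pow_left k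
  obtain ⟨C, hC⟩ := exists_right_complement'_of_coprime hcop
  have hCc : Nat.card ↥C = P'.index := hC.symm.index_eq_card.symm
  refine ⟨C.map N.subtype, map_subtype_le _, ?_, ?_, ?_⟩
  · rw [card_subtype, hCc]
    exact Nat.Coprime.symm (hp.out.coprime_iff_not_dvd.2 hnd)
  · refine le_antisymm (sup_le (map_subtype_le _) le_normalizer) fun x hx => ?_
    obtain ⟨a, ha, c, hc, e⟩ :=
      mem_sup_of_normal_left.1 (hC.sup_eq_top.ge (mem_top (⟨x, hx⟩ : ↥N)))
    rw [← show (a : G) * c = x from congrArg Subtype.val e]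
    exact mul_mem (mem_sup_right (mem_subgroupOf.1 ha)) (mem_sup_left (mem_map_of_mem N.subtype hc))
  · rw [card_subtype, hCc, ← card_mul_index P',
      Nat.card_congr (subgroupOfEquivOfLe (le_normalizer : (P : Subgroup G) ≤ N)).toEquiv]

theorem le_sylow_of_le_normalizer (P : Sylow p G) {X : Subgroup G} (hX : IsPGroup p ↥X)
    (hXN : X ≤ normalizer ((P : Subgroup G) : Set G)) : X ≤ (P : Subgroup G) := by
  have h : IsPGroup p ↥(X ⊔ (P : Subgroup G)) := hX.to_sup_of_normal_right' P.isPGroup' hXN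
  rw [← P.3 h le_sup_right]
  exact le_sup_left

/-- The elements of `P` centralizing `B`. -/
def fixSub (P : Sylow p G) (B : Subgroup G) : Subgroup G :=
  (P : Subgroup G) ⊓ centralizer (B : Set G)

theorem fixSub_le (P : Sylow p G) (B : Subgroup G) : fixSub P B ≤ (P : Subgroup G) := inf_le_left

namespace Min

variable (hG : Min p G) {P : Sylow p G} {B : Subgroup G}
include hG

theorem sylow_le_type {ℓ : ℕ} [Fact ℓ.Prime] (hℓp : ℓ ≠ p) {E : Subgroup G} (hE : IsType p E) {a : G}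
    (ha : a ∈ E) (ha1 : a ≠ 1) (L : Sylow ℓ G) (haL : a ∈ (L : Subgroup G)) : (L : Subgroup G) ≤ E :=
  fun z hz => hE.mem z (hE.cent a ha ha1 (mem_centralizer_singleton_iff.2
    (congrArg Subtype.val ((hG.sylow_comm hℓp L).is_comm.comm ⟨z, hz⟩ ⟨a, haL⟩))))
    ((hG.coprime_of_isPGroup hℓp L.isPGroup').coprime_dvd_left (orderOf_dvd_card_of_mem hz))

theorem isType_facts (hB : IsNComp P B) (hB1 : B ≠ ⊥) :
    ∃ E : Subgroup G, IsType p E ∧ B ≤ E ∧ (P : Subgroup G) ⊓ normalizer (E : Set G) = fixSub P B ∧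
      (∀ b ∈ B, b ≠ 1 → (P : Subgroup G) ⊓ centralizer ({b} : Set G) = fixSub P B) ∧
      2 * Nat.card ↥B ≤ Nat.card ↥E ∧ fixSub P B ≠ (P : Subgroup G) := by
  obtain ⟨b0, hb0, hb01⟩ : ∃ b ∈ B, b ≠ 1 := by
    by_contra hno
    push Not at hno
    exact hB1 ((eq_bot_iff_forall _).2 hno)
  obtain ⟨E, hE, hbE⟩ := hG.exists_isType (hB.coprime.coprime_dvd_left (orderOf_dvd_card_of_mem hb0)) hb01
  have hBE : B ≤ E := fun z hz => hE.mem z
    (hE.cent b0 hbE hb01 (mem_centralizer_singleton_iff.2 (hG.ab.comm hB.coprime hz hb0)))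
    (hB.coprime.coprime_dvd_left (orderOf_dvd_card_of_mem hz))
  have hPE : (P : Subgroup G) ⊓ E = ⊥ := CfsgLib.PCore.inf_eq_bot_of_isPGroup_coprime (p := p)
    P.isPGroup' hE.coprime
  have hW : (P : Subgroup G) ⊓ normalizer (E : Set G) = fixSub P B := by
    refine le_antisymm (fun x hx => ?_) fun x hx => ?_
    · obtain ⟨hxP, hxE⟩ := mem_inf.1 hx
      refine mem_inf.2 ⟨hxP, mem_centralizer_iff.2 fun b hb => ?_⟩
      have h1 : x * b * x⁻¹ * b⁻¹ ∈ (P : Subgroup G) ⊓ E := mem_inf.2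
        ⟨by
          rw [mul_assoc x, mul_assoc x]
          exact mul_mem hxP ((mem_normalizer_iff.1 (hB.le hb) x⁻¹).1 (inv_mem hxP)),
        mul_mem ((mem_normalizer_iff.1 hxE b).1 (hBE hb)) (inv_mem (hBE hb))⟩
      rw [hPE, mem_bot, mul_inv_eq_one, mul_inv_eq_iff_eq_mul] at h1
      exact h1.symm
    · refine mem_inf.2 ⟨(mem_inf.1 hx).1, hE.cent b0 hbE hb01 (mem_centralizer_singleton_iff.2 ?_)⟩
      exact (mem_centralizer_iff.1 (mem_inf.1 hx).2 b0 hb0).symm
  have hC : ∀ b ∈ B, b ≠ 1 → (P : Subgroup G) ⊓ centralizer ({b} : Set G) = fixSub P B := fun b hb hb1 =>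
    le_antisymm (fun x hx => hW.le (mem_inf.2 ⟨(mem_inf.1 hx).1, hE.cent b (hBE hb) hb1 (mem_inf.1 hx).2⟩))
      (inf_le_inf_left _ (centralizer_le (Set.singleton_subset_iff.2 hb)))
  have hWP : fixSub P B ≠ (P : Subgroup G) := fun hEq => by
    have hcen : ∀ x ∈ (P : Subgroup G), ∀ b ∈ B, b * x = x * b := fun x hx b hb =>
      mem_centralizer_iff.1 (mem_inf.1 (hEq.ge hx)).2 b hb
    have h2 : ⁅normalizer ((P : Subgroup G) : Set G), normalizer ((P : Subgroup G) : Set G)⁆ ≤
        ⁅(P : Subgroup G), (P : Subgroup G)⁆ := by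
      have hx : ∀ x ∈ normalizer ((P : Subgroup G) : Set G),
          ∃ b ∈ B, ∃ y ∈ (P : Subgroup G), x = b * y := fun x hx => by
        rw [← hB.sup, ← SetLike.mem_coe, coe_mul_of_left_le_normalizer_right B _ hB.le, Set.mem_mul] at hx
        obtain ⟨b, hb, y, hy, e⟩ := hx
        exact ⟨b, hb, y, hy, e.symm⟩
      refine commutator_le.2 fun x hxN y hyN => ?_
      obtain ⟨b, hb, a, ha, rfl⟩ := hx x hxN
      obtain ⟨d, hd, c, hc, rfl⟩ := hx y hyN
      have h1 : ⁅b * a, d * c⁆ = ⁅a, c⁆ := by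
        have e1 : Commute b a := hcen a ha b hb
        have e2 : Commute d c := hcen c hc d hd
        have e3 : Commute b c := hcen c hc b hb
        have e4 : Commute d a := hcen a ha d hd
        have e5 : Commute b d := hG.ab.comm hB.coprime hb hd
        simp only [commutatorElement_def, mul_inv_rev]
        calc b * a * (d * c) * (a⁻¹ * b⁻¹) * (c⁻¹ * d⁻¹)
            = b * (a * d) * c * a⁻¹ * (b⁻¹ * c⁻¹) * d⁻¹ := by group
          _ = b * d * (a * c * a⁻¹) * (c⁻¹ * b⁻¹) * d⁻¹ := by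
              rw [← e4.eq, (e3.inv_inv).eq]; group
          _ = b * d * (a * c * a⁻¹ * c⁻¹) * (d * b)⁻¹ := by group
          _ = a * c * a⁻¹ * c⁻¹ := by
              have hk : Commute (b * d) (a * c * a⁻¹ * c⁻¹) :=
                (((e1.mul_left e4).mul_right (e3.mul_left e2)).mul_right (e1.mul_left e4).inv_right).mul_right
                  (e3.mul_left e2).inv_right
              rw [hk.eq, ← e5.eq, mul_assoc, mul_inv_cancel, mul_one]
      rw [h1]
      exact commutator_mem_commutator ha hc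
    have h1 := (hG.le_commutator_normalizer P).trans h2
    haveI := P.isPGroup'.isNilpotent
    haveI : Nontrivial ↥(P : Subgroup G) :=
      (Subgroup.nontrivial_iff_ne_bot _).2 (P.ne_bot_of_dvd_card hG.dvd_card)
    have h3 : commutator ↥(P : Subgroup G) = ⊤ := by
      refine map_injective (P : Subgroup G).subtype_injective ?_
      rw [map_subtype_commutator, ← MonoidHom.range_eq_map, range_subtype]
      exact le_antisymm (commutator_le.2 fun a ha b hb => by
        rw [commutatorElement_def]; exact mul_mem (mul_mem (mul_mem ha hb) (inv_mem ha)) (inv_mem hb)) h1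
    exact (Group.IsSolvable.commutator_lt_top_of_nontrivial ↥(P : Subgroup G)).ne h3
  refine ⟨E, hE, hBE, hW, hC, ?_, hWP⟩
  have hne : B ≠ E := by
    intro e
    obtain ⟨ℓ, hℓ, hd⟩ := Nat.exists_prime_and_dvd (n := orderOf b0) (by rwa [ne_eq, orderOf_eq_one_iff])
    haveI := Fact.mk hℓ
    have hℓp : ℓ ≠ p := fun h =>
      hℓ.coprime_iff_not_dvd.1 (h ▸ (hE.orderOf_coprime hbE).symm) hd
    have hℓo : orderOf (b0 ^ (orderOf b0 / ℓ)) = ℓ := orderOf_pow_orderOf_div (orderOf_pos b0).ne' hd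
    set a := b0 ^ (orderOf b0 / ℓ) with ha
    have ha1 : a ≠ 1 := fun h => hℓ.one_lt.ne' (by rw [← hℓo, h, orderOf_one])
    obtain ⟨L, hL⟩ := (IsPGroup.of_card (n := 1) (show Nat.card ↥(zpowers a) = ℓ ^ 1 by
      rw [Nat.card_zpowers, hℓo, pow_one])).exists_le_sylow
    have haL : a ∈ (L : Subgroup G) := hL (mem_zpowers _)
    have hLne : (L : Subgroup G) ≠ ⊥ := fun h => ha1 (mem_bot.1 (h ▸ haL))
    have hA : om ℓ (L : Subgroup G) ≤ B :=
      e ▸ (om_le ℓ _).trans (hG.sylow_le_type hℓp hE (pow_mem hbE _) ha1 L haL)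
    have hcen := hG.om_le_centralizer hℓp L hLne P.isPGroup' (hA.trans hB.le)
    have haA : a ∈ om ℓ (L : Subgroup G) := (mem_om ℓ (hG.sylow_comm hℓp L)).2
      ⟨haL, by rw [← hℓo]; exact pow_orderOf_eq_one a⟩
    refine hWP (le_antisymm (fixSub_le P B) fun x hx => hW.le (mem_inf.2 ⟨hx,
      hE.cent a (pow_mem hbE _) ha1 (mem_centralizer_singleton_iff.2
        (mem_centralizer_iff.1 (hcen haA) x hx))⟩))
  rw [← card_mul_index (B.subgroupOf E), Nat.card_congr (subgroupOfEquivOfLe hBE).toEquiv, mul_comm]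
  refine Nat.mul_le_mul_left _ ?_
  have h1 : (B.subgroupOf E).index ≠ 1 := fun h =>
    hne (le_antisymm hBE (subgroupOf_eq_top.1 (index_eq_one.1 h)))
  have h2 : (B.subgroupOf E).index ≠ 0 := index_ne_zero_of_finite
  omega

theorem card_cent_type {v : G} (hv : v ∈ (P : Subgroup G)) {E : Subgroup G} (hE : IsType p E)
    (hC : centralizer ({v} : Set G) ≤ normalizer (E : Set G)) :
    cCnt p v * Nat.card ↥((P : Subgroup G) ⊓ centralizer ({v} : Set G)) =
      Nat.card ↥(centralizer ({v} : Set G)) := by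
  set C := centralizer ({v} : Set G) with hCdef
  set O := (Cfsg.pPrimeCore p ↥C).map C.subtype with hO
  have hOc : (Nat.card ↥O).Coprime p := by rw [hO, card_subtype]; exact CfsgLib.PCore.pPrimeCore_coprime
  have hc : cCnt p v = Nat.card ↥O := by
    refine Nat.card_congr
      { toFun := fun y => ⟨y.1, mem_core_of_isType hE hC
          (mem_centralizer_singleton_iff.2 y.2.1.eq.symm) y.2.2⟩
        invFun := fun z => ⟨z.1, (mem_centralizer_singleton_iff.1 (map_subtype_le _ z.2)).symm,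
          hOc.coprime_dvd_left (orderOf_dvd_card_of_mem z.2)⟩
        left_inv := fun y => rfl
        right_inv := fun z => rfl }
  have hZ : IsPGroup p (↥C ⧸ Cfsg.pPrimeCore p ↥C) := by
    intro z
    obtain ⟨x, rfl⟩ := QuotientGroup.mk'_surjective _ z
    obtain ⟨u, w, rfl, -, -, -, hu, hwc⟩ := exists_parts (p := p) x
    obtain ⟨k, hk⟩ := hu ⟨u, mem_zpowers u⟩
    refine ⟨k, ?_⟩
    have hk' : u ^ p ^ k = 1 := by simpa using congrArg Subtype.val hk
    obtain ⟨o, ho, hoe⟩ := mem_core_of_isType hE hC w.2 (by rwa [Subgroup.orderOf_coe])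
    rw [map_mul, show QuotientGroup.mk' (Cfsg.pPrimeCore p ↥C) w = 1 from
      (QuotientGroup.eq_one_iff w).2 (Subtype.ext (show (o : G) = w from hoe) ▸ ho),
      mul_one, ← map_pow, hk', map_one]
  obtain ⟨j, hj⟩ := IsPGroup.iff_card.1 hZ
  obtain ⟨i, hi⟩ := IsPGroup.iff_card.1 (P.isPGroup'.to_le (inf_le_left : (P : Subgroup G) ⊓ C ≤ _))
  have hC1 : Nat.card ↥C = p ^ j * Nat.card ↥O := by
    rw [hO, card_subtype, ← hj, ← card_eq_card_quotient_mul_card_subgroup]
  have hC2 : Nat.card ↥C = p ^ i * ((P : Subgroup G) ⊓ C).relIndex C := by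
    rw [← hi, ← card_mul_index (((P : Subgroup G) ⊓ C).subgroupOf C),
      Nat.card_congr (subgroupOfEquivOfLe inf_le_right).toEquiv, relIndex]
  have h1 : p ^ j ∣ p ^ i := by
    refine ((hp.out.coprime_iff_not_dvd.2 (hG.not_dvd_centralizer P hv)).pow_left j).dvd_of_dvd_mul_right ?_
    rw [← hC2, hC1]; exact dvd_mul_right _ _
  have h2 : p ^ i ∣ p ^ j := by
    refine (hOc.symm.pow_left i).dvd_of_dvd_mul_right ?_
    rw [← hC1, hC2]; exact dvd_mul_right _ _
  rw [hc, hi, hC1, Nat.dvd_antisymm h2 h1, mul_comm]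

/-- No `p'`-element of `N(P)` centralizes `v`: the weight of `v` is one. -/
theorem weight_eq {v : G} (hv : v ∈ (P : Subgroup G)) (hv1 : v ≠ 1)
    (h : ∀ b ∈ normalizer ((P : Subgroup G) : Set G) ⊓ centralizer ({v} : Set G),
      (orderOf b).Coprime p → b = 1) :
    Nat.card ↥(normalizer ((P : Subgroup G) : Set G) ⊓ centralizer ({v} : Set G)) * cCnt p v =
      Nat.card ↥(centralizer ({v} : Set G)) := by
  set N := normalizer ((P : Subgroup G) : Set G) with hN
  set C := centralizer ({v} : Set G) with hC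
  have hpel : ∀ x ∈ N ⊓ C, IsPGroup p ↥(zpowers x) := fun x hx => by
    obtain ⟨u, w, e, -, hu, hw, hup, hwc⟩ := exists_parts (p := p) x
    rw [e, h w (zpowers_le.2 hx hw) hwc, mul_one]
    exact hup
  have hNC : N ⊓ C = (P : Subgroup G) ⊓ C := le_antisymm (fun x hx => mem_inf.2
    ⟨le_sylow_of_le_normalizer P (hpel x hx) (zpowers_le.2 (mem_inf.1 hx).1) (mem_zpowers x),
      (mem_inf.1 hx).2⟩) (inf_le_inf_right _ le_normalizer)
  have hD : zpowers v ≤ (P : Subgroup G) := zpowers_le.2 hv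
  have hD1 : zpowers v ≠ ⊥ := by rwa [ne_eq, zpowers_eq_bot]
  have hCN : C ≤ normalizer ((zpowers v : Subgroup G) : Set G) := by
    rw [hC, ← CfsgLib.Signalizer.centralizer_zpowers]
    exact centralizer_le_normalizer _
  by_cases hc : Cfsg.pPrimeCore p ↥(normalizer ((zpowers v : Subgroup G) : Set G)) = ⊥
  · have hle : C ≤ N := hCN.trans (hG.normalizer_le_of_core_bot P hD hD1 hc)
    have hone : cCnt p v = 1 := by
      refine Nat.card_eq_one_iff_unique.2 ⟨⟨fun a b => Subtype.ext ?_⟩,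
        ⟨⟨1, Commute.one_right v, by rw [orderOf_one]; exact Nat.coprime_one_left p⟩⟩⟩
      have hab : ∀ c : {y : G // Commute v y ∧ (orderOf y).Coprime p}, c.1 = 1 := fun c =>
        h c.1 (mem_inf.2 ⟨hle (mem_centralizer_singleton_iff.2 c.2.1.eq.symm),
          mem_centralizer_singleton_iff.2 c.2.1.eq.symm⟩) c.2.2
      rw [hab a, hab b]
    rw [hone, mul_one, inf_eq_right.2 hle]
  · obtain ⟨E, hE, hHE⟩ := hG.exists_type_of_core hc
    rw [hNC, mul_comm]
    exact hG.card_cent_type hv hE (hCN.trans hHE)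

/-- The weight of `v` is at least `1 + (|B| - 1) k`, `k` the number of conjugates of `B` centralizing `v`. -/
theorem weight_ge (hB : IsNComp P B) (hB1 : B ≠ ⊥) {v : G} (hv : v ∈ (P : Subgroup G)) (hv1 : v ≠ 1) :
    Nat.card ↥(centralizer ({v} : Set G)) * (1 + (Nat.card ↥B - 1) *
      Nat.card {i : ↥(P : Subgroup G) ⧸ (fixSub P B).subgroupOf (P : Subgroup G) //
        (i.out : G)⁻¹ * v * (i.out : G) ∈ fixSub P B}) ≤
    Nat.card ↥(normalizer ((P : Subgroup G) : Set G) ⊓ centralizer ({v} : Set G)) * cCnt p v := by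
  classical
  obtain ⟨E, hE, hBE, hW, hCb, -, -⟩ := hG.isType_facts hB hB1
  set N := normalizer ((P : Subgroup G) : Set G) with hN
  set C := centralizer ({v} : Set G) with hC
  set W := fixSub P B with hWdef
  set K := {i : ↥(P : Subgroup G) ⧸ W.subgroupOf (P : Subgroup G) // (i.out : G)⁻¹ * v * (i.out : G) ∈ W}
  have hbv : ∀ u : G, u⁻¹ * v * u ∈ W → ∀ b ∈ B, u * b * u⁻¹ ∈ C := fun u hu b hb => by
    have h1 := mem_centralizer_iff.1 (mem_inf.1 hu).2 b hb
    refine mem_centralizer_singleton_iff.2 ?_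
    calc u * b * u⁻¹ * v = u * (b * (u⁻¹ * v * u)) * u⁻¹ := by group
      _ = v * (u * b * u⁻¹) := by rw [h1]; group
  have hbN : ∀ u ∈ (P : Subgroup G), ∀ b ∈ B, u * b * u⁻¹ ∈ N := fun u hu b hb =>
    mul_mem (mul_mem (le_normalizer hu) (hB.le hb)) (inv_mem (le_normalizer hu))
  by_cases hno : ∀ b ∈ N ⊓ C, (orderOf b).Coprime p → b = 1
  · rw [hG.weight_eq hv hv1 hno]
    have hK : IsEmpty K := ⟨fun i => by
      obtain ⟨b, hb, hb1⟩ : ∃ b ∈ B, b ≠ 1 := by
        by_contra hh
        push Not at hh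
        exact hB1 ((eq_bot_iff_forall _).2 hh)
      refine hb1 ?_
      have := hno _ (mem_inf.2 ⟨hbN _ (i.1.out).2 b hb, hbv _ i.2 b hb⟩)
        (by rw [show orderOf ((i.1.out : G) * b * (i.1.out : G)⁻¹) = orderOf b from
              orderOf_injective (MulAut.conj (i.1.out : G)).toMonoidHom (MulAut.conj _).injective b]
            exact hB.coprime.coprime_dvd_left (orderOf_dvd_card_of_mem hb))
      rwa [conj_eq_one_iff] at this⟩
    rw [show Nat.card K = 0 from Nat.card_eq_zero.2 (Or.inl hK), mul_zero, add_zero, mul_one]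
  push Not at hno
  obtain ⟨b', hb', hb'c, hb'1⟩ := hno
  obtain ⟨x, hxP, hxB⟩ := hG.exists_conj_mem_complement P hB.le hB.coprime hB.sup (mem_inf.1 hb').1 hb'c
  have hxv : x⁻¹ * v * x ∈ W := by
    have h1 : x⁻¹ * b' * x ≠ 1 := fun h => hb'1 (by
      calc b' = x * (x⁻¹ * b' * x) * x⁻¹ := by group
        _ = 1 := by rw [h]; group)
    refine (hCb _ hxB h1).le (mem_inf.2 ⟨mul_mem (mul_mem (inv_mem hxP) hv) hxP, ?_⟩)
    refine mem_centralizer_singleton_iff.2 ?_
    calc x⁻¹ * v * x * (x⁻¹ * b' * x) = x⁻¹ * (v * b') * x := by group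
      _ = x⁻¹ * b' * x * (x⁻¹ * v * x) := by
        rw [← mem_centralizer_singleton_iff.1 (mem_inf.1 hb').2]; group
  have hCN : C ≤ normalizer ((zpowers v : Subgroup G) : Set G) := by
    rw [hC, ← CfsgLib.Signalizer.centralizer_zpowers]
    exact centralizer_le_normalizer _
  by_cases hc : Cfsg.pPrimeCore p ↥(normalizer ((zpowers v : Subgroup G) : Set G)) = ⊥
  · have hle : C ≤ N := hCN.trans (hG.normalizer_le_of_core_bot P (zpowers_le.2 hv)
      (by rwa [ne_eq, zpowers_eq_bot]) hc)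
    rw [inf_eq_right.2 hle]
    refine Nat.mul_le_mul_left _ ?_
    have hinj : Nat.card (Option (K × {b : ↥B // b ≠ 1})) ≤ cCnt p v := by
      let f : Option (K × {b : ↥B // b ≠ 1}) → {y : G // Commute v y ∧ (orderOf y).Coprime p} := fun o =>
        o.elim ⟨1, Commute.one_right v, by rw [orderOf_one]; exact Nat.coprime_one_left p⟩ fun s =>
          ⟨(s.1.1.out : G) * (s.2.1 : G) * (s.1.1.out : G)⁻¹,
            (mem_centralizer_singleton_iff.1 (hbv _ s.1.2 _ s.2.1.2)).symm,
            by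
              rw [show orderOf ((s.1.1.out : G) * (s.2.1 : G) * (s.1.1.out : G)⁻¹) = orderOf (s.2.1 : G) from
                orderOf_injective (MulAut.conj (s.1.1.out : G)).toMonoidHom (MulAut.conj _).injective _]
              exact hB.coprime.coprime_dvd_left (orderOf_dvd_card_of_mem s.2.1.2)⟩
      refine Nat.card_le_card_of_injective f ?_
      have hne : ∀ s : K × {b : ↥B // b ≠ 1}, ((f (some s)).1 : G) ≠ 1 := fun s h => by
        have h' : (s.1.1.out : G) * (s.2.1 : G) * (s.1.1.out : G)⁻¹ = 1 := h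
        rw [conj_eq_one_iff] at h'
        exact s.2.2 (Subtype.ext h')
      rintro (_ | ⟨i, b⟩) (_ | ⟨i', b'⟩) e
      · rfl
      · exact absurd (congrArg Subtype.val e).symm (hne _)
      · exact absurd (congrArg Subtype.val e) (hne _)
      set u := (i.1.out : G) with hu
      set u' := (i'.1.out : G) with hu'
      have e' : u * (b.1 : G) * u⁻¹ = u' * (b'.1 : G) * u'⁻¹ := congrArg Subtype.val e
      set d := u'⁻¹ * u with hd
      have hdP : d ∈ (P : Subgroup G) := mul_mem (inv_mem (i'.1.out).2) (i.1.out).2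
      have hdb : d * (b.1 : G) * d⁻¹ = (b'.1 : G) := by
        calc d * (b.1 : G) * d⁻¹ = u'⁻¹ * (u * (b.1 : G) * u⁻¹) * u' := by rw [hd]; group
          _ = (b'.1 : G) := by rw [e']; group
      have h1 : d * (b.1 : G) * d⁻¹ * (b.1 : G)⁻¹ ∈ (P : Subgroup G) ⊓ B := mem_inf.2
        ⟨by
          rw [mul_assoc d, mul_assoc d]
          exact mul_mem hdP ((mem_normalizer_iff.1 (hB.le b.1.2) d⁻¹).1 (inv_mem hdP)),
        by rw [hdb]; exact mul_mem b'.1.2 (inv_mem b.1.2)⟩
      rw [CfsgLib.PCore.inf_eq_bot_of_isPGroup_coprime (p := p) P.isPGroup' hB.coprime, mem_bot,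
        mul_inv_eq_one] at h1
      have hbb : b = b' := Subtype.ext (Subtype.ext (h1 ▸ hdb : (b.1 : G) = b'.1))
      have hdW : d ∈ W := (hCb _ b.1.2 fun h => b.2 (Subtype.ext h)).le
        (mem_inf.2 ⟨hdP, mem_centralizer_singleton_iff.2 (mul_inv_eq_iff_eq_mul.1 h1)⟩)
      have hii : i = i' := Subtype.ext (by
        rw [← QuotientGroup.out_eq' i.1, ← QuotientGroup.out_eq' i'.1]
        exact (QuotientGroup.eq.2 (mem_subgroupOf.2 hdW)).symm)
      rw [hbb, hii]
    have hBne : Nat.card {b : ↥B // b ≠ 1} = Nat.card ↥B - 1 := by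
      letI := Fintype.ofFinite ↥B
      rw [Nat.card_eq_fintype_card, Nat.card_eq_fintype_card, Fintype.card_subtype_compl,
        Fintype.card_subtype_eq]
    rw [Finite.card_option, Nat.card_prod, hBne] at hinj
    linarith [mul_comm (Nat.card K) (Nat.card ↥B - 1)]
  · obtain ⟨E', hE', hHE'⟩ := hG.exists_type_of_core hc
    have hCE : C ≤ normalizer (E' : Set G) := hCN.trans hHE'
    have key := hG.card_cent_type hv hE' hCE
    have hEeq : ∀ u ∈ (P : Subgroup G), u⁻¹ * v * u ∈ W → E.map (MulAut.conj u).toMonoidHom = E' := by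
      intro u hu huv
      obtain ⟨b, hb, hb1⟩ : ∃ b ∈ B, b ≠ 1 := by
        by_contra hh
        push Not at hh
        exact hB1 ((eq_bot_iff_forall _).2 hh)
      refine (hE.conj u).unique hE' (mem_map_of_mem _ (hBE hb)) ?_ (by simpa [conj_eq_one_iff] using hb1)
      refine hE'.mem _ (hCE (hbv u huv b hb)) ?_
      rw [show orderOf ((MulAut.conj u).toMonoidHom b) = orderOf b from
        orderOf_injective (MulAut.conj u).toMonoidHom (MulAut.conj _).injective b]
      exact hB.coprime.coprime_dvd_left (orderOf_dvd_card_of_mem hb)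
    have hK1 : Nat.card K ≤ 1 := by
      refine (Finite.card_le_one_iff_subsingleton).2 ⟨fun i i' => Subtype.ext ?_⟩
      rw [← QuotientGroup.out_eq' i.1, ← QuotientGroup.out_eq' i'.1]
      refine QuotientGroup.eq.2 (mem_subgroupOf.2 ?_)
      refine hW.le (mem_inf.2 ⟨mul_mem (inv_mem (i.1.out).2) (i'.1.out).2, map_conj_eq_self_iff.1 ?_⟩)
      rw [Subgroup.coe_mul, Subgroup.coe_inv, ← CfsgLib.Signalizer.conj_map_map,
        (hEeq _ (i'.1.out).2 i'.2).trans (hEeq _ (i.1.out).2 i.2).symm, CfsgLib.Signalizer.conj_map_map,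
        inv_mul_cancel, CfsgLib.Signalizer.conj_map_one]
    have hdvd : Nat.card ↥((P : Subgroup G) ⊓ C) * Nat.card ↥B ∣ Nat.card ↥(N ⊓ C) := by
      obtain ⟨k, hk⟩ := IsPGroup.iff_card.1 (P.isPGroup'.to_le (inf_le_left : (P : Subgroup G) ⊓ C ≤ _))
      have hsub : B.map (MulAut.conj x).toMonoidHom ≤ N ⊓ C := by
        rintro _ ⟨b, hb, rfl⟩
        exact mem_inf.2 ⟨hbN x hxP b hb, hbv x hxv b hb⟩
      refine (Nat.Coprime.mul_dvd_of_dvd_of_dvd ?_ (card_dvd_of_le (inf_le_inf_right _ le_normalizer)) ?_)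
      · rw [hk]; exact hB.coprime.symm.pow_left k
      · have := card_dvd_of_le hsub
        rwa [card_map_of_injective (MulAut.conj x).injective] at this
    have h3 : Nat.card ↥((P : Subgroup G) ⊓ C) * Nat.card ↥B ≤ Nat.card ↥(N ⊓ C) :=
      Nat.le_of_dvd Nat.card_pos hdvd
    have h4 : 1 + (Nat.card ↥B - 1) * Nat.card K ≤ Nat.card ↥B := by
      have := Nat.mul_le_mul_left (Nat.card ↥B - 1) hK1
      have hpos : 0 < Nat.card ↥B := Nat.card_pos
      omega
    calc Nat.card ↥C * (1 + (Nat.card ↥B - 1) * Nat.card K) ≤ Nat.card ↥C * Nat.card ↥B :=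
          Nat.mul_le_mul_left _ h4
      _ = cCnt p v * Nat.card ↥((P : Subgroup G) ⊓ C) * Nat.card ↥B := by rw [key]
      _ ≤ Nat.card ↥(N ⊓ C) * cCnt p v := by
          rw [mul_comm (Nat.card ↥(N ⊓ C)), mul_assoc]; exact Nat.mul_le_mul_left _ h3

omit hG in
/-- Double counting the pairs of an element of `P#` and a conjugate of `B` centralizing it. -/
theorem sum_fix [Fintype {v : G // v ∈ (P : Subgroup G) ∧ v ≠ 1}] :
    ∑ v : {v : G // v ∈ (P : Subgroup G) ∧ v ≠ 1},
      Nat.card {i : ↥(P : Subgroup G) ⧸ (fixSub P B).subgroupOf (P : Subgroup G) //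
        (i.out : G)⁻¹ * (v : G) * (i.out : G) ∈ fixSub P B} =
      ((fixSub P B).subgroupOf (P : Subgroup G)).index * (Nat.card ↥(fixSub P B) - 1) := by
  classical
  set W := fixSub P B with hW
  have h1 : Nat.card {w : ↥W // w ≠ 1} = Nat.card ↥W - 1 := by
    letI := Fintype.ofFinite ↥W
    rw [Nat.card_eq_fintype_card, Nat.card_eq_fintype_card, Fintype.card_subtype_compl,
      Fintype.card_subtype_eq]
  rw [index, ← h1, ← Nat.card_prod, ← Nat.card_sigma]
  refine Nat.card_congr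
    { toFun := fun s => (s.2.1, ⟨⟨_, s.2.2⟩, fun h => s.1.2.2 ?_⟩)
      invFun := fun s => ⟨⟨(s.1.out : G) * (s.2.1 : G) * (s.1.out : G)⁻¹, ?_, ?_⟩, ⟨s.1, ?_⟩⟩
      left_inv := ?_
      right_inv := ?_ }
  · have h' : (s.2.1.out : G)⁻¹ * (s.1 : G) * (s.2.1.out : G) = 1 := congrArg Subtype.val h
    calc (s.1 : G) = (s.2.1.out : G) * ((s.2.1.out : G)⁻¹ * (s.1 : G) * (s.2.1.out : G)) *
          (s.2.1.out : G)⁻¹ := by group
      _ = 1 := by rw [h']; group
  · exact mul_mem (mul_mem (s.1.out).2 (fixSub_le P B s.2.1.2)) (inv_mem (s.1.out).2)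
  · rw [ne_eq, conj_eq_one_iff]
    exact fun h => s.2.2 (Subtype.ext h)
  · show (s.1.out : G)⁻¹ * ((s.1.out : G) * (s.2.1 : G) * (s.1.out : G)⁻¹) * (s.1.out : G) ∈ W
    rw [show (s.1.out : G)⁻¹ * ((s.1.out : G) * (s.2.1 : G) * (s.1.out : G)⁻¹) * (s.1.out : G) =
      (s.2.1 : G) by group]
    exact s.2.1.2
  · rintro ⟨⟨v, hv⟩, ⟨i, hi⟩⟩
    have hve : (i.out : G) * ((i.out : G)⁻¹ * v * (i.out : G)) * (i.out : G)⁻¹ = v := by group
    apply Sigma.subtype_ext
    · exact Subtype.ext hve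
    · rfl
  · rintro ⟨i, ⟨⟨w, hw⟩, hw1⟩⟩
    refine Prod.ext rfl (Subtype.ext (Subtype.ext ?_))
    show (i.out : G)⁻¹ * ((i.out : G) * w * (i.out : G)⁻¹) * (i.out : G) = w
    group

/-- If `W ≠ 1`, the Sylow `p`-subgroup of `N(E)` has the order of `W`. -/
theorem card_normalizer_type (hB : IsNComp P B) (hB1 : B ≠ ⊥) {E : Subgroup G} (hE : IsType p E)
    (hBE : B ≤ E) (hWne : fixSub P B ≠ ⊥) :
    Nat.card ↥(normalizer (E : Set G)) = Nat.card ↥E * Nat.card ↥(fixSub P B) := by
  obtain ⟨E0, hE0, hBE0, hW, -, -, hWP⟩ := hG.isType_facts hB hB1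
  obtain ⟨b, hb, hb1⟩ : ∃ b ∈ B, b ≠ 1 := by
    by_contra hh
    push Not at hh
    exact hB1 ((eq_bot_iff_forall _).2 hh)
  obtain rfl := hE.unique hE0 (hBE hb) (hBE0 hb) hb1
  set W := fixSub P B with hWdef
  set M := normalizer (E : Set G) with hM
  have hWM : W ≤ M := hW.ge.trans inf_le_right
  have hWp : IsPGroup p ↥W := P.isPGroup'.to_le (fixSub_le P B)
  obtain ⟨S, hS⟩ := (hWp.comap_subtype (K := M)).exists_le_sylow
  set T := (S : Subgroup ↥M).map M.subtype with hT
  have hWT : W ≤ T := fun x hx => ⟨⟨x, hWM hx⟩, hS (mem_subgroupOf.2 hx), rfl⟩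
  have hTp : IsPGroup p ↥T := S.isPGroup'.map _
  have hTW : T = W := by
    by_contra hne
    have hlt : W < T := lt_of_le_of_ne hWT (Ne.symm hne)
    set H := normalizer (W : Set G) with hH
    have hHne : H ≠ ⊤ := hG.normalizer_ne_top (hG.pgroup_solvable hWp) hWne
    have hlt2 : W < (P : Subgroup G) ⊓ H := lt_of_le_not_ge (le_inf (fixSub_le P B) le_normalizer)
      fun hle => CfsgLib.Signalizer.normalizer_inf_not_le (q := p) P.isPGroup'
        (lt_of_le_of_ne (fixSub_le P B) hWP) (by rwa [inf_comm])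
    by_cases hc : Cfsg.pPrimeCore p ↥H = ⊥
    · have hU : T ⊓ H ≤ (P : Subgroup G) ⊓ H := by
        intro x hx
        have hxH : x ∈ H := (mem_inf.1 hx).2
        have hxp : IsPGroup p ↥(zpowers (⟨x, hxH⟩ : ↥H)) := by
          refine ((hTp.to_le (zpowers_le.2 (mem_inf.1 hx).1)).comap_subtype (K := H)).to_le ?_
          rw [zpowers_le]
          exact mem_subgroupOf.2 (mem_zpowers x)
        have h1 := (hG.good hHne).mem_pPrimePCore hxp
        rw [CfsgLib.PCore.pPrimePCore_eq_pCore hc, hG.pCore_normalizer P (fixSub_le P B) hWne hc] at h1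
        exact mem_subgroupOf.1 h1
      have hle : T ⊓ H ≤ W := fun x hx => hW.le
        (mem_inf.2 ⟨(mem_inf.1 (hU hx)).1, map_subtype_le _ (mem_inf.1 hx).1⟩)
      exact CfsgLib.Signalizer.normalizer_inf_not_le (q := p) hTp hlt (by rwa [inf_comm])
    · obtain ⟨E', hE', hHE'⟩ := hG.exists_type_of_core hc
      have hbH : b ∈ H := centralizer_le_normalizer _ (mem_centralizer_iff.2 fun w hw =>
        (mem_centralizer_iff.1 (mem_inf.1 hw).2 b hb).symm)
      have hbE' : b ∈ E' := hE'.mem b (hHE' hbH) (hB.coprime.coprime_dvd_left (orderOf_dvd_card_of_mem hb))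
      obtain rfl := hE.unique hE' (hBE hb) hbE' hb1
      exact hlt2.not_ge ((inf_le_inf_left _ hHE').trans hW.le)
  obtain ⟨k, -, hk⟩ := hG.type_index hE
  have hT' : Nat.card ↥T = p ^ (Nat.card ↥M).factorization p := by
    rw [hT, card_subtype, S.card_eq_multiplicity]
  rw [← hTW, hT', hk]
  congr 1
  rw [Nat.factorization_mul Nat.card_pos.ne' (pow_pos hp.out.pos k).ne', Finsupp.add_apply,
    Nat.factorization_eq_zero_of_not_dvd (hp.out.coprime_iff_not_dvd.1 hE.coprime.symm), zero_add,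
    hp.out.factorization_pow, Finsupp.single_eq_same]

end Min

end CfsgLib.Techniques.PPA
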