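import Cfsg.Agent.Lib.Techniques.PPrimeAbelian.Types

/-!
Normalizers and centralizers of `p`-subgroups in the minimal counterexample.
-/

set_option autoImplicit false
set_option linter.unusedSectionVars false
set_option linter.style.haveILetI false

namespace CfsgLib.Techniques.PPA

open Subgroup Cfsg.Agent.S1954
open scoped commutatorElement Pointwise

universe u

variable {G : Type u} [Group G] [Finite G] {p : ℕ} [hp : Fact p.Prime]

theorem not_dvd_relIndex_of_max {H R : Subgroup G} (hRp : IsPGroup p ↥R) (hRH : R ≤ H)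
    (hmax : ∀ T : Subgroup G, IsPGroup p ↥T → T ≤ H → R ≤ T → T = R) : ¬ p ∣ R.relIndex H := by
  obtain ⟨S, hS⟩ := (hRp.comap_subtype (K := H)).exists_le_sylow
  have e : (S : Subgroup ↥H).map H.subtype = R := hmax _ (S.isPGroup'.map _) (map_subtype_le _)
    (fun x hx => ⟨⟨x, hRH hx⟩, hS (mem_subgroupOf.2 hx), rfl⟩)
  rw [← e, relIndex, subgroupOf, comap_map_eq_self_of_injective H.subtype_injective]
  exact S.not_dvd_index

namespace Min

variable (hG : Min p G) (P : Sylow p G)
include hG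

theorem normalizer_extremal {D T : Subgroup G} (hD : D ≤ (P : Subgroup G)) (hT : IsPGroup p ↥T)
    (hTN : T ≤ normalizer (D : Set G)) (hle : (P : Subgroup G) ⊓ normalizer (D : Set G) ≤ T) :
    T = (P : Subgroup G) ⊓ normalizer (D : Set G) := by
  have hDT : D ≤ T := (le_inf hD le_normalizer).trans hle
  obtain ⟨S, hS⟩ := hT.exists_le_sylow
  obtain ⟨g, hg⟩ := MulAction.exists_smul_eq G S P
  have hgT : T.map (MulAut.conj g).toMonoidHom ≤ (P : Subgroup G) := by
    rw [← hg, Sylow.coe_subgroup_smul]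
    exact Subgroup.map_mono hS
  obtain ⟨h, hh, c, hc, rfl⟩ := hG.sylow_ctrl P D hD g ((Subgroup.map_mono hDT).trans hgT)
  have hcD : ∀ d ∈ D, c * d * c⁻¹ = d := fun d hd => by
    rw [← mem_centralizer_iff.1 hc d hd, mul_inv_cancel_right]
  have hcT : T.map (MulAut.conj c).toMonoidHom ≤ (P : Subgroup G) ⊓ normalizer (D : Set G) := by
    rintro _ ⟨t, ht, rfl⟩
    refine mem_inf.2 ⟨?_, ?_⟩
    · have h1 := hgT (mem_map_of_mem _ ht)
      refine (mem_normalizer_iff.1 hh _).2 ?_
      simpa [mul_assoc] using h1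
    · have hcn : c ∈ normalizer (D : Set G) := centralizer_le_normalizer _ hc
      exact mul_mem (mul_mem hcn (hTN ht)) (inv_mem hcn)
  have hcard := card_le_of_le hcT
  rw [card_map_of_injective (MulAut.conj c).injective] at hcard
  exact (eq_of_le_of_card_ge hle hcard).symm

theorem not_dvd_normalizer {D : Subgroup G} (hD : D ≤ (P : Subgroup G)) :
    ¬ p ∣ ((P : Subgroup G) ⊓ normalizer (D : Set G)).relIndex (normalizer (D : Set G)) :=
  not_dvd_relIndex_of_max (P.isPGroup'.to_le inf_le_left) inf_le_right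
    fun _ hT hTN hle => hG.normalizer_extremal P hD hT hTN hle

theorem not_dvd_centralizer {v : G} (hv : v ∈ (P : Subgroup G)) :
    ¬ p ∣ ((P : Subgroup G) ⊓ centralizer ({v} : Set G)).relIndex (centralizer ({v} : Set G)) := by
  refine not_dvd_relIndex_of_max (P.isPGroup'.to_le inf_le_left) inf_le_right fun T hT hTC hle => ?_
  have hvT : v ∈ T := hle (mem_inf.2 ⟨hv, mem_centralizer_singleton_iff.2 rfl⟩)
  obtain ⟨S, hS⟩ := hT.exists_le_sylow
  obtain ⟨g, hg⟩ := MulAction.exists_smul_eq G S P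
  have hgT : T.map (MulAut.conj g).toMonoidHom ≤ (P : Subgroup G) := by
    rw [← hg, Sylow.coe_subgroup_smul]
    exact Subgroup.map_mono hS
  obtain ⟨h, hh, c, hc, rfl⟩ := hG.sylow_ctrl P (zpowers v) (zpowers_le.2 hv) g
    ((Subgroup.map_mono (zpowers_le.2 hvT)).trans hgT)
  have hcv : c ∈ centralizer ({v} : Set G) :=
    mem_centralizer_singleton_iff.2 (mem_centralizer_iff.1 hc v (mem_zpowers v)).symm
  have hcT : T.map (MulAut.conj c).toMonoidHom ≤ (P : Subgroup G) ⊓ centralizer ({v} : Set G) := by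
    rintro _ ⟨t, ht, rfl⟩
    refine mem_inf.2 ⟨?_, mul_mem (mul_mem hcv (hTC ht)) (inv_mem hcv)⟩
    refine (mem_normalizer_iff.1 hh _).2 ?_
    simpa [mul_assoc] using hgT (mem_map_of_mem _ ht)
  have hcard := card_le_of_le hcT
  rw [card_map_of_injective (MulAut.conj c).injective] at hcard
  exact (eq_of_le_of_card_ge hle hcard).symm

omit hG in
theorem mem_core_of_isType {H E : Subgroup G} (hE : IsType p E) (hHE : H ≤ normalizer (E : Set G))
    {y : G} (hy : y ∈ H) (hyc : (orderOf y).Coprime p) :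
    y ∈ (Cfsg.pPrimeCore p ↥H).map H.subtype := by
  refine ⟨⟨y, hy⟩, CfsgLib.PCore.le_pPrimeCore (N := (E ⊓ H).subgroupOf H) ?_ ?_
    (mem_subgroupOf.2 (mem_inf.2 ⟨hE.mem y (hHE hy) hyc, hy⟩)), rfl⟩
  · exact normal_subgroupOf_of_le_normalizer ((le_inf hHE (le_normalizer (H := H))).trans
      (inf_normalizer_le_normalizer_inf (H := E) (K := H)))
  · rw [Nat.card_congr (subgroupOfEquivOfLe inf_le_right).toEquiv]
    exact hE.coprime.coprime_dvd_left (card_dvd_of_le inf_le_left)

/-- A proper subgroup with nontrivial `p'`-core normalizes one of the abelian subgroups. -/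
theorem exists_type_of_core {H : Subgroup G} (h : Cfsg.pPrimeCore p ↥H ≠ ⊥) :
    ∃ E : Subgroup G, IsType p E ∧ H ≤ normalizer (E : Set G) := by
  obtain ⟨y, hy, hy1⟩ : ∃ y ∈ Cfsg.pPrimeCore p ↥H, y ≠ 1 := by
    by_contra hno
    push Not at hno
    exact h ((eq_bot_iff_forall _).2 hno)
  set O := (Cfsg.pPrimeCore p ↥H).map H.subtype with hO
  have hOc : (Nat.card ↥O).Coprime p := by rw [hO, card_subtype]; exact CfsgLib.PCore.pPrimeCore_coprime
  have hord : ∀ z ∈ O, (orderOf z).Coprime p := fun z hz => by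
    refine hOc.coprime_dvd_left ?_
    rw [← Subgroup.orderOf_mk z hz]; exact orderOf_dvd_natCard _
  have hyO : (y : G) ∈ O := mem_map_of_mem H.subtype hy
  have hy1' : (y : G) ≠ 1 := fun e => hy1 (Subtype.ext e)
  obtain ⟨E, hE, hyE⟩ := hG.exists_isType (hord _ hyO) hy1'
  have hOE : O ≤ E := fun z hz => hE.mem z (hE.cent _ hyE hy1' (mem_centralizer_singleton_iff.2
    (hG.ab.comm hOc hz hyO))) (hord z hz)
  refine ⟨E, hE, fun x hx => map_conj_eq_self_iff.1 ?_⟩
  have hconj : x * (y : G) * x⁻¹ ∈ O :=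
    ⟨⟨x, hx⟩ * y * ⟨x, hx⟩⁻¹, (inferInstance : (Cfsg.pPrimeCore p ↥H).Normal).conj_mem y hy _, rfl⟩
  exact (hE.unique (hE.conj x) (hOE hconj) (mem_map_of_mem _ hyE)
    (by rwa [ne_eq, conj_eq_one_iff])).symm

/-- If `O_{p'}(N(D)) = 1`, the normalizer of `D ≤ P` normalizes `P ⊓ N(D)`, which is `O_p(N(D))`. -/
theorem pCore_normalizer {D : Subgroup G} (hD : D ≤ (P : Subgroup G)) (hD1 : D ≠ ⊥)
    (h : Cfsg.pPrimeCore p ↥(normalizer (D : Set G)) = ⊥) :
    Cfsg.pCore p ↥(normalizer (D : Set G)) =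
      ((P : Subgroup G) ⊓ normalizer (D : Set G)).subgroupOf (normalizer (D : Set G)) := by
  set H := normalizer (D : Set G)
  have hH : H ≠ ⊤ := hG.normalizer_ne_top (hG.pgroup_solvable (P.isPGroup'.to_le hD)) hD1
  set R := ((P : Subgroup G) ⊓ H).subgroupOf H
  have hRp : IsPGroup p ↥R := (P.isPGroup'.to_le inf_le_left).comap_subtype
  obtain ⟨S, hS⟩ := hRp.exists_le_sylow
  have hSR : (S : Subgroup ↥H) = R := by
    have h1 : (S : Subgroup ↥H).map H.subtype = (P : Subgroup G) ⊓ H :=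
      hG.normalizer_extremal P hD (S.isPGroup'.map _) (map_subtype_le _)
        fun x hx => ⟨⟨x, (mem_inf.1 hx).2⟩, hS (mem_subgroupOf.2 hx), rfl⟩
    show (S : Subgroup ↥H) = ((P : Subgroup G) ⊓ H).comap H.subtype
    rw [← h1, comap_map_eq_self_of_injective H.subtype_injective]
  refine le_antisymm (hSR ▸ CfsgLib.PCore.pCore_le_sylow S) fun x hx => ?_
  have := (hG.good hH).mem_pPrimePCore (hRp.to_le (zpowers_le.2 hx))
  rwa [CfsgLib.PCore.pPrimePCore_eq_pCore h] at this

theorem normalizer_le_of_core_bot {D : Subgroup G} (hD : D ≤ (P : Subgroup G)) (hD1 : D ≠ ⊥)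
    (h : Cfsg.pPrimeCore p ↥(normalizer (D : Set G)) = ⊥) :
    normalizer (D : Set G) ≤ normalizer ((P : Subgroup G) : Set G) := by
  induction hn : Nat.card G - Nat.card ↥D using Nat.strong_induction_on generalizing D with
  | _ n ih =>
  set H := normalizer (D : Set G) with hH
  set R := (P : Subgroup G) ⊓ H with hR
  rcases eq_or_ne D (P : Subgroup G) with e | hne
  · rw [hH, e]
  have hlt : D < R := by
    refine lt_of_le_not_ge (le_inf hD le_normalizer) fun hle => ?_
    have := CfsgLib.Signalizer.normalizer_inf_not_le (q := p) P.isPGroup' (lt_of_le_of_ne hD hne)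
    exact this (by rwa [inf_comm])
  have hcore := hG.pCore_normalizer P hD hD1 h
  have hHR : H ≤ normalizer (R : Set G) := by
    have h1 : (R.subgroupOf H).Normal := hcore ▸ (inferInstance : (Cfsg.pCore p ↥H).Normal)
    exact (normal_subgroupOf_iff_le_normalizer inf_le_right).1 h1
  have hR1 : R ≠ ⊥ := fun e => hD1 (le_bot_iff.1 (e ▸ hlt.le))
  by_cases hc : Cfsg.pPrimeCore p ↥(normalizer (R : Set G)) = ⊥
  · refine hHR.trans (ih _ ?_ inf_le_left hR1 hc rfl)
    have h1 : Nat.card ↥D < Nat.card ↥R :=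
      lt_of_le_of_ne (card_le_of_le hlt.le) fun e => hlt.ne (eq_of_le_of_card_ge hlt.le e.ge)
    have h2 := card_le_card_group R
    omega
  obtain ⟨E, hE, hRE⟩ := hG.exists_type_of_core hc
  have hHE : H ≤ normalizer (E : Set G) := hHR.trans hRE
  haveI : Group.IsSolvable ↥H :=
    hG.sol H (hG.normalizer_ne_top (hG.pgroup_solvable (P.isPGroup'.to_le hD)) hD1)
  intro x hx
  obtain ⟨u, v, e, -, hu, hv, hup, hvc⟩ := exists_parts (p := p) (⟨x, hx⟩ : ↥H)
  have hv1 : v = 1 := by
    have := mem_core_of_isType hE hHE v.2 (by rwa [Subgroup.orderOf_coe])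
    rw [h] at this
    obtain ⟨z, hz, hze⟩ := this
    simp only [SetLike.mem_coe, mem_bot] at hz
    exact Subtype.ext (by rw [← show (z : G) = v from hze, hz])
  have huV := (hG.good (hG.normalizer_ne_top (hG.pgroup_solvable (P.isPGroup'.to_le hD)) hD1)).mem_pPrimePCore hup
  rw [CfsgLib.PCore.pPrimePCore_eq_pCore h, hcore] at huV
  rw [show x = (u : G) from (congrArg Subtype.val e).trans (by rw [hv1, mul_one])]
  exact le_normalizer (mem_inf.1 (mem_subgroupOf.1 huV)).1

/-- A `p'`-element of `N(P)` lies in a `P`-conjugate of a complement. -/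
theorem exists_conj_mem_complement {B : Subgroup G} (hB : B ≤ normalizer ((P : Subgroup G) : Set G))
    (hBc : (Nat.card ↥B).Coprime p)
    (hBP : B ⊔ (P : Subgroup G) = normalizer ((P : Subgroup G) : Set G)) {b : G}
    (hb : b ∈ normalizer ((P : Subgroup G) : Set G)) (hbc : (orderOf b).Coprime p) :
    ∃ x ∈ (P : Subgroup G), x⁻¹ * b * x ∈ B := by
  obtain ⟨k, hk⟩ := IsPGroup.iff_card.1 P.isPGroup'
  obtain ⟨x, hx, hle⟩ := CfsgLib.Coprime.exists_conj_le_of_coprime B (P : Subgroup G) hB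
    (by rw [hk]; exact hBc.pow_right k) (zpowers b) (by rw [hBP]; exact zpowers_le.2 hb)
    (by rw [hk, Nat.card_zpowers]; exact hbc.pow_right k)
    (Or.inr (hG.pgroup_solvable P.isPGroup'))
  refine ⟨x⁻¹, inv_mem hx, ?_⟩
  rw [inv_inv]
  have h1 := hle (Subgroup.smul_mem_pointwise_smul _ (MulAut.conj x) _ (mem_zpowers b))
  simpa [MulAut.smul_def] using h1

end Min

end CfsgLib.Techniques.PPA
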