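import Cfsg.Agent.Lib.Techniques.AutomizerFree
import Cfsg.Agent.Lib.Transfer.Central
import Cfsg.Agent.Lib.PLocal.NoSLTwo
import Cfsg.Agent.Lib.Characters.PermChar

/-!
Groups in which every `p'`-subgroup is abelian of exponent dividing `p - 1`: the hypothesis, its inheritance,
and first consequences for a minimal counterexample to solvability.
-/

set_option autoImplicit false

open scoped MatrixGroups Pointwise commutatorElement

namespace CfsgLib.Techniques.PPA

open Subgroup

universe u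

variable {G : Type u} [Group G] {p : ℕ}

/-- Every `p'`-subgroup is abelian of exponent dividing `p - 1`. -/
def PPAb (p : ℕ) (G : Type u) [Group G] : Prop :=
  ∀ H : Subgroup G, (Nat.card ↥H).Coprime p → IsMulCommutative ↥H ∧ ∀ x ∈ H, x ^ (p - 1) = 1

theorem PPAb.subgroup (h : PPAb p G) (K : Subgroup G) : PPAb p ↥K := by
  intro H hH
  obtain ⟨hc, he⟩ := h (H.map K.subtype) (by rwa [card_subtype])
  refine ⟨⟨⟨fun a b => Subtype.ext (Subtype.ext ?_)⟩⟩, fun x hx => Subtype.ext ?_⟩
  · have := congrArg Subtype.val (hc.is_comm.comm ⟨_, mem_map_of_mem K.subtype a.2⟩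
      ⟨_, mem_map_of_mem K.subtype b.2⟩)
    simpa using this
  · rw [SubmonoidClass.coe_pow]
    exact he _ (mem_map_of_mem K.subtype hx)

/-- A `p'`-subgroup of a quotient is the image of a `p'`-subgroup. -/
theorem exists_coprime_lift [Finite G] [Fact p.Prime] (N : Subgroup G) [N.Normal] (X : Subgroup (G ⧸ N))
    (hX : (Nat.card ↥X).Coprime p) :
    ∃ C : Subgroup G, (Nat.card ↥C).Coprime p ∧ C.map (QuotientGroup.mk' N) = X := by
  set f := QuotientGroup.mk' N
  set H := X.comap f with hH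
  have hNH : N ≤ H := fun n hn => by
    show f n ∈ X
    rw [show f n = 1 from (QuotientGroup.eq_one_iff n).2 hn]
    exact one_mem _
  obtain ⟨P⟩ : Nonempty (Sylow p ↥N) := inferInstance
  set P' := (P : Subgroup ↥N).map N.subtype with hP'
  set M := H ⊓ normalizer (P' : Set G) with hM
  have hPN : P' ≤ N := map_subtype_le _
  have hPM : P' ≤ M := le_inf (hPN.trans hNH) le_normalizer
  have hmap : M.map f = X := by
    refine le_antisymm ((Subgroup.map_mono inf_le_left).trans (map_comap_le _ _)) fun z hz => ?_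
    obtain ⟨g, rfl⟩ := QuotientGroup.mk'_surjective N z
    have htop := Sylow.normalizer_sup_eq_top P
    obtain ⟨a, ha, b, hb, rfl⟩ := mem_sup_of_normal_right.1 (htop.ge (mem_top g))
    have e : f (a * b) = f a := by
      rw [map_mul, show f b = 1 from (QuotientGroup.eq_one_iff b).2 hb, mul_one]
    refine ⟨a, mem_inf.2 ⟨show f a ∈ X from e ▸ hz, ha⟩, e.symm⟩
  have hnd : ¬ p ∣ P'.relIndex M := by
    -- the kernel part `N ∩ M` has `P'` as a Sylow subgroup, the quotient is a `p'`-group
    have h1 : ¬ p ∣ P'.relIndex (N ⊓ M) := fun hd =>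
      P.not_dvd_index (by
        have h2 : P'.relIndex (N ⊓ M) ∣ P'.relIndex N :=
          Dvd.intro _ (relIndex_mul_relIndex P' (N ⊓ M) N (le_inf hPN hPM) inf_le_left)
        refine hd.trans (h2.trans (dvd_of_eq ?_))
        rw [relIndex, subgroupOf, hP', comap_map_eq_self_of_injective N.subtype_injective])
    have h3 : (N ⊓ M).relIndex M = Nat.card ↥X := by
      have h4 := relIndex_ker (f := f) M
      rw [hmap, QuotientGroup.ker_mk'] at h4
      rw [← h4, relIndex, relIndex, inf_subgroupOf_right]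
    rw [← relIndex_mul_relIndex P' (N ⊓ M) M (le_inf hPN hPM) inf_le_right, h3]
    exact fun hd => ((Fact.out : p.Prime).dvd_mul.1 hd).elim h1
      (fun h => ((Fact.out : p.Prime).coprime_iff_not_dvd.1 hX.symm) h)
  have hn : (P'.subgroupOf M).Normal := normal_subgroupOf_of_le_normalizer inf_le_right
  have hpg : IsPGroup p ↥(P'.subgroupOf M) := (P.isPGroup'.map _).comap_subtype
  obtain ⟨k, hk⟩ := IsPGroup.iff_card.1 hpg
  have hcop : (Nat.card ↥(P'.subgroupOf M)).Coprime (P'.subgroupOf M).index := by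
    rw [hk]
    exact ((Fact.out : p.Prime).coprime_iff_not_dvd.2 hnd).pow_left k
  obtain ⟨C, hC⟩ := exists_right_complement'_of_coprime hcop
  refine ⟨C.map M.subtype, ?_, ?_⟩
  · rw [card_subtype, ← hC.symm.index_eq_card]
    exact Nat.Coprime.symm ((Fact.out : p.Prime).coprime_iff_not_dvd.2 hnd)
  · refine le_antisymm ((Subgroup.map_mono (map_subtype_le _)).trans hmap.le) fun z hz => ?_
    obtain ⟨m, hm, rfl⟩ := hmap.ge hz
    obtain ⟨a, ha, c, hc, e⟩ := mem_sup_of_normal_left.1 (hC.sup_eq_top.ge (mem_top (⟨m, hm⟩ : ↥M)))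
    refine ⟨c, mem_map_of_mem M.subtype hc, ?_⟩
    have e' : (m : G) = (a : G) * c := congrArg Subtype.val e.symm
    have ha' : f (a : G) = 1 := (QuotientGroup.eq_one_iff (a : G)).2 (hPN (mem_subgroupOf.1 ha))
    rw [e', map_mul, ha', one_mul]

theorem PPAb.quotient [Finite G] [Fact p.Prime] (h : PPAb p G) (N : Subgroup G) [N.Normal] :
    PPAb p (G ⧸ N) := by
  intro X hX
  obtain ⟨C, hC, rfl⟩ := exists_coprime_lift N X hX
  obtain ⟨hc, he⟩ := h C hC
  refine ⟨⟨⟨?_⟩⟩, ?_⟩
  · rintro ⟨_, a, ha, rfl⟩ ⟨_, b, hb, rfl⟩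
    refine Subtype.ext ?_
    show QuotientGroup.mk' N a * QuotientGroup.mk' N b = QuotientGroup.mk' N b * QuotientGroup.mk' N a
    rw [← map_mul, ← map_mul, show a * b = b * a from congrArg Subtype.val (hc.is_comm.comm ⟨a, ha⟩ ⟨b, hb⟩)]
  · rintro _ ⟨a, ha, rfl⟩
    rw [← map_pow, he a ha, map_one]

theorem PPAb.comm (h : PPAb p G) {H : Subgroup G} (hH : (Nat.card ↥H).Coprime p) {a b : G} (ha : a ∈ H)
    (hb : b ∈ H) : a * b = b * a :=
  congrArg Subtype.val ((h H hH).1.is_comm.comm ⟨a, ha⟩ ⟨b, hb⟩)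

/-- A `p'`-element normalizing a `p'`-subgroup centralizes it. -/
theorem PPAb.mem_centralizer [Finite G] [Fact p.Prime] (h : PPAb p G) {X : Subgroup G}
    (hX : (Nat.card ↥X).Coprime p) {y : G} (hy : (orderOf y).Coprime p)
    (hn : y ∈ normalizer (X : Set G)) : y ∈ centralizer (X : Set G) := by
  have hc : (Nat.card ↥(X ⊔ zpowers y)).Coprime p := by
    have hle : zpowers y ≤ normalizer (X : Set G) := zpowers_le.2 hn
    have h1 : Nat.card ↥(X ⊔ zpowers y) ∣ Nat.card ↥X * Nat.card ↥(zpowers y) := by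
      have hK : ((X ⊔ zpowers y : Subgroup G) : Set G) = (X : Set G) * (zpowers y : Set G) :=
        coe_mul_of_right_le_normalizer_left X _ hle
      rw [← card_mul_index (X.subgroupOf (X ⊔ zpowers y)), ← relIndex,
        Nat.card_congr (subgroupOfEquivOfLe (le_sup_left : X ≤ X ⊔ zpowers y)).toEquiv]
      haveI : (X.subgroupOf (X ⊔ zpowers y)).Normal :=
        normal_subgroupOf_of_le_normalizer (sup_le le_normalizer hle)
      refine Nat.mul_dvd_mul_left _ ?_
      rw [relIndex, index]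
      refine card_dvd_of_surjective
        ((QuotientGroup.mk' _).comp (inclusion (le_sup_right : zpowers y ≤ X ⊔ zpowers y))) ?_
      intro z
      induction z using QuotientGroup.induction_on with
      | H z =>
        obtain ⟨a, ha, b, hb, e⟩ := Set.mem_mul.1 (hK ▸ z.2 : (z : G) ∈ (X : Set G) * (zpowers y : Set G))
        refine ⟨⟨b, hb⟩, QuotientGroup.eq.2 (mem_subgroupOf.2 ?_)⟩
        show b⁻¹ * (z : G) ∈ X
        rw [← e, ← mul_assoc]
        exact (mem_normalizer_iff.1 (inv_mem (hle hb)) a).1 ha |> fun h => by simpa using h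
    refine Nat.Coprime.coprime_dvd_left h1 (Nat.Coprime.mul_left hX ?_)
    rwa [Nat.card_zpowers]
  exact mem_centralizer_iff.2 fun x hx => h.comm hc (mem_sup_left hx) (mem_sup_right (mem_zpowers y))

/-- Splitting into a `p`-part and a `p'`-part. -/
theorem exists_parts [Finite G] [hp : Fact p.Prime] (x : G) :
    ∃ u v : G, x = u * v ∧ Commute u v ∧ u ∈ zpowers x ∧ v ∈ zpowers x ∧
      IsPGroup p ↥(zpowers u) ∧ (orderOf v).Coprime p := by
  obtain ⟨u, v, e, hc, hu, hv, ⟨a, ha⟩, hco⟩ := CfsgLib.PermChar.exists_p_decomp hp.out x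
  obtain ⟨k, -, hk⟩ := (Nat.dvd_prime_pow hp.out).1 ha
  exact ⟨u, v, e, hc, hu, hv, IsPGroup.of_card (n := k) (by rw [Nat.card_zpowers, hk]), hco⟩

/-- The minimal counterexample. -/
structure Min (p : ℕ) (G : Type u) [Group G] : Prop where
  ge5 : 5 ≤ p
  ab : PPAb p G
  sol : ∀ H : Subgroup G, H ≠ ⊤ → Group.IsSolvable ↥H
  simple : IsSimpleGroup G
  nonab : ¬ IsMulCommutative G

namespace Min

variable (hG : Min p G)
include hG

theorem p_ne_two : p ≠ 2 := by have := hG.ge5; omega

theorem center_eq_bot : center G = ⊥ := by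
  haveI := hG.simple
  rcases (inferInstance : (center G).Normal).eq_bot_or_eq_top with h | h
  · exact h
  · exact absurd ⟨⟨fun a b => ((mem_center_iff.1 (h.ge (mem_top a))) b).symm⟩⟩ hG.nonab

theorem centralizer_ne_top {y : G} (hy : y ≠ 1) : centralizer ({y} : Set G) ≠ ⊤ := fun h =>
  hy (by
    rw [← mem_bot, ← hG.center_eq_bot, mem_center_iff]
    exact fun g => (mem_centralizer_singleton_iff.1 (h.ge (mem_top g))))

theorem isSolvable_centralizer {y : G} (hy : y ≠ 1) :
    Group.IsSolvable ↥(centralizer ({y} : Set G)) :=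
  hG.sol _ (hG.centralizer_ne_top hy)

theorem commutator_eq_top : commutator G = ⊤ := by
  haveI := hG.simple
  rcases (inferInstance : (commutator G).Normal).eq_bot_or_eq_top with h | h
  · refine absurd ⟨⟨fun a b => ?_⟩⟩ hG.nonab
    have := h.le (show ⁅a, b⁆ ∈ commutator G from commutator_mem_commutator (mem_top a) (mem_top b))
    exact commutatorElement_eq_one_iff_commute.1 (mem_bot.1 this)
  · exact h

theorem ne_top_of_solvable {H : Subgroup G} (h : Group.IsSolvable ↥H) : H ≠ ⊤ := by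
  rintro rfl
  haveI : Group.IsSolvable G :=
    Group.isSolvable_of_surjective (f := (Subgroup.topEquiv : (⊤ : Subgroup G) ≃* G).toMonoidHom)
      Subgroup.topEquiv.surjective
  haveI := hG.simple
  exact (Group.IsSolvable.commutator_lt_top_of_nontrivial G).ne hG.commutator_eq_top

theorem normalizer_ne_top [Finite G] {H : Subgroup G} (h : Group.IsSolvable ↥H) (hne : H ≠ ⊥) :
    normalizer (H : Set G) ≠ ⊤ := fun e => by
  haveI := hG.simple
  rcases (normalizer_eq_top_iff.1 e).eq_bot_or_eq_top with h' | h'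
  · exact hne h'
  · exact hG.ne_top_of_solvable h h'

variable [Finite G] [hp : Fact p.Prime]

theorem not_isPGroup : ¬ IsPGroup p G := fun h => by
  haveI := h.isNilpotent
  haveI := hG.simple
  exact (Group.IsSolvable.commutator_lt_top_of_nontrivial G).ne hG.commutator_eq_top

theorem dvd_card : p ∣ Nat.card G := by
  by_contra h
  obtain ⟨hc, -⟩ := hG.ab ⊤ (by rw [card_top]; exact (hp.out.coprime_iff_not_dvd.2 h).symm)
  exact hG.nonab ⟨⟨fun a b => congrArg Subtype.val (hc.is_comm.comm ⟨a, mem_top a⟩ ⟨b, mem_top b⟩)⟩⟩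

theorem dvd_pred {q : ℕ} [hq : Fact q.Prime] (hqp : q ≠ p) (hd : q ∣ Nat.card G) : q ∣ p - 1 := by
  obtain ⟨x, hx⟩ := exists_prime_orderOf_dvd_card' q hd
  rw [← hx]
  refine orderOf_dvd_of_pow_eq_one ((hG.ab (zpowers x) ?_).2 x (mem_zpowers x))
  rw [Nat.card_zpowers, hx]
  exact (Nat.coprime_primes hq.out hp.out).2 hqp

theorem autFree : CfsgLib.Techniques.AutFree p G := by
  intro Q hQ H hH f hf hC
  have hns : ¬ Group.IsSolvable SL(2, ZMod p) := fun h =>
    CfsgLib.PLocal.not_isPSolvable_sl2 hG.ge5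
      (@CfsgLib.PCore.isPSolvable_of_isSolvable p SL(2, ZMod p) _ _ _ h)
  rcases eq_or_ne Q ⊥ with rfl | hne
  · refine hns ?_
    haveI : Subsingleton SL(2, ZMod p) := ⟨fun a b => by
      obtain ⟨x, rfl⟩ := hf a
      obtain ⟨y, rfl⟩ := hf b
      rw [hC x (mem_centralizer_iff.2 fun q hq => by simp [mem_bot.1 hq]),
        hC y (mem_centralizer_iff.2 fun q hq => by simp [mem_bot.1 hq])]⟩
    infer_instance
  · haveI := hQ.isNilpotent
    haveI : Group.IsSolvable ↥H :=
      hG.sol H fun e => hG.normalizer_ne_top inferInstance hne (top_le_iff.1 (e ▸ hH))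
    exact hns (Group.isSolvable_of_surjective hf)

end Min

end CfsgLib.Techniques.PPA
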