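import Cfsg.Agent.Lib.Techniques.PPrimeAbelian.PSide

/-!
The number of elements of order divisible by `p`, as a sum over a Sylow `p`-subgroup.
-/

set_option autoImplicit false
set_option linter.unusedSectionVars false
set_option linter.style.haveILetI false

namespace CfsgLib.Techniques.PPA

open Subgroup
open scoped BigOperators

universe u

variable {G : Type u} [Group G] [Finite G] {p : ℕ} [hp : Fact p.Prime]

/-- The number of `p'`-elements centralizing `v`. -/
noncomputable def cCnt (p : ℕ) (v : G) : ℕ :=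
  Nat.card {y : G // Commute v y ∧ (orderOf y).Coprime p}

omit hp [Finite G] in
theorem cCnt_conj (g v : G) : cCnt p (g * v * g⁻¹) = cCnt p v := by
  refine (Nat.card_congr ((MulAut.conj g).toEquiv.subtypeEquiv fun y => ?_)).symm
  show Commute v y ∧ _ ↔ Commute (g * v * g⁻¹) (g * y * g⁻¹) ∧ (orderOf (g * y * g⁻¹)).Coprime p
  have ho : orderOf (g * y * g⁻¹) = orderOf y :=
    orderOf_injective (MulAut.conj g).toMonoidHom (MulAut.conj g).injective y
  rw [ho]
  refine and_congr_left fun _ => ⟨fun h => h.map (MulAut.conj g).toMonoidHom, fun h => ?_⟩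
  have := h.map (MulAut.conj g⁻¹).toMonoidHom
  simpa [mul_assoc] using this

theorem parts_unique {v y v' y' : G} (hv : IsPGroup p ↥(zpowers v)) (hy : (orderOf y).Coprime p)
    (h : Commute v y) (hv' : IsPGroup p ↥(zpowers v')) (hy' : (orderOf y').Coprime p) (h' : Commute v' y')
    (e : v * y = v' * y') : v = v' := by
  obtain ⟨u, w, hx, huw, hu, hw, hup, hwc⟩ := exists_parts (p := p) (v * y)
  suffices key : ∀ a b : G, IsPGroup p ↥(zpowers a) → (orderOf b).Coprime p → Commute a b →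
      a * b = v * y → a = u by
    rw [key v y hv hy h rfl, key v' y' hv' hy' h' e.symm]
  intro a b ha hb hab hab'
  obtain ⟨i, hi⟩ := mem_zpowers_iff.1 hu
  obtain ⟨j, hj⟩ := mem_zpowers_iff.1 hw
  rw [← hab'] at hi hj hx
  have hau : Commute a⁻¹ u := hi ▸ (((Commute.refl a).mul_right hab).inv_left.zpow_right i)
  have hbw : Commute b w⁻¹ := hj ▸ ((hab.symm.mul_right (Commute.refl b)).zpow_right j).inv_right
  have heq : a⁻¹ * u = b * w⁻¹ := by
    rw [eq_mul_inv_iff_mul_eq, mul_assoc, ← hx, inv_mul_cancel_left]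
  obtain ⟨k, hk⟩ := ha ⟨a, mem_zpowers a⟩
  obtain ⟨l, hl⟩ := hup ⟨u, mem_zpowers u⟩
  have h1 : orderOf (a⁻¹ * u) ∣ p ^ (k + l) := by
    refine orderOf_dvd_of_pow_eq_one ?_
    have hk' : a ^ p ^ k = 1 := by simpa using congrArg Subtype.val hk
    have hl' : u ^ p ^ l = 1 := by simpa using congrArg Subtype.val hl
    have hk'' : a ^ (p ^ k * p ^ l) = 1 := by rw [pow_mul, hk', one_pow]
    have hl'' : u ^ (p ^ k * p ^ l) = 1 := by rw [mul_comm, pow_mul, hl', one_pow]
    rw [hau.mul_pow, inv_pow, pow_add, hk'', hl'', inv_one, one_mul]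
  have h2 : orderOf (b * w⁻¹) ∣ orderOf b * orderOf w⁻¹ := hbw.orderOf_mul_dvd_mul_orderOf
  rw [orderOf_inv] at h2
  have : orderOf (a⁻¹ * u) = 1 := Nat.eq_one_of_dvd_coprimes
    (((Nat.Coprime.mul_left hb hwc).pow_right (k + l)).symm) h1 (heq ▸ h2)
  exact inv_mul_eq_one.1 (orderOf_eq_one_iff.1 this)

theorem card_singular_eq :
    Nat.card {x : G // p ∣ orderOf x} =
      Nat.card (Σ v : {v : G // IsPGroup p ↥(zpowers v) ∧ v ≠ 1},
        {y : G // Commute (v : G) y ∧ (orderOf y).Coprime p}) := by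
  have hd : ∀ {v y : G}, IsPGroup p ↥(zpowers v) → v ≠ 1 → Commute v y → (orderOf y).Coprime p →
      p ∣ orderOf (v * y) := by
    intro v y hv hv1 h hy
    obtain ⟨k, hk⟩ := IsPGroup.iff_card.1 hv
    rw [Nat.card_zpowers] at hk
    have hk0 : k ≠ 0 := fun h0 => hv1 (orderOf_eq_one_iff.1 (by rw [hk, h0, pow_zero]))
    rw [h.orderOf_mul_eq_mul_orderOf_of_coprime (by rw [hk]; exact hy.symm.pow_left k), hk]
    exact (dvd_pow_self p hk0).trans (dvd_mul_right _ _)
  symm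
  refine Nat.card_congr (Equiv.ofBijective
    (fun s : (Σ v : {v : G // IsPGroup p ↥(zpowers v) ∧ v ≠ 1},
        {y : G // Commute (v : G) y ∧ (orderOf y).Coprime p}) =>
      (⟨(s.1 : G) * s.2.1, hd s.1.2.1 s.1.2.2 s.2.2.1 s.2.2.2⟩ : {x : G // p ∣ orderOf x})) ⟨?_, ?_⟩)
  · rintro ⟨⟨v, hv⟩, y, hy⟩ ⟨⟨v', hv'⟩, y', hy'⟩ e
    have e' : v * y = v' * y' := congrArg Subtype.val e
    obtain rfl := parts_unique hv.1 hy.2 hy.1 hv'.1 hy'.2 hy'.1 e'
    obtain rfl := mul_left_cancel e'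
    rfl
  · rintro ⟨x, hx⟩
    obtain ⟨u, w, e, huw, -, -, hup, hwc⟩ := exists_parts (p := p) x
    refine ⟨⟨⟨u, hup, fun h1 => ?_⟩, w, huw, hwc⟩, Subtype.ext e.symm⟩
    rw [e, h1, one_mul] at hx
    exact hp.out.coprime_iff_not_dvd.1 hwc.symm hx

theorem Min.card_conj_into (hG : Min p G) (P : Sylow p G) {w : G} (hw : w ∈ (P : Subgroup G)) :
    Nat.card {h : G // h * w * h⁻¹ ∈ (P : Subgroup G)} *
        Nat.card ↥(normalizer ((P : Subgroup G) : Set G) ⊓ centralizer ({w} : Set G)) =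
      Nat.card ↥(normalizer ((P : Subgroup G) : Set G)) * Nat.card ↥(centralizer ({w} : Set G)) := by
  set N := normalizer ((P : Subgroup G) : Set G) with hN
  set C := centralizer ({w} : Set G) with hC
  have hex : ∀ h : {h : G // h * w * h⁻¹ ∈ (P : Subgroup G)}, ∃ n : ↥N, ∃ c : ↥C, (h : G) = n * c := by
    rintro ⟨h, hh⟩
    obtain ⟨n, hn, c, hc, e⟩ := hG.sylow_ctrl P (zpowers w) (zpowers_le.2 hw) h
      (by rw [MonoidHom.map_zpowers]; exact zpowers_le.2 hh)
    exact ⟨⟨n, hn⟩, ⟨c, mem_centralizer_singleton_iff.2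
      (mem_centralizer_iff.1 hc w (mem_zpowers w)).symm⟩, e⟩
  choose nh ch hnc using hex
  rw [← Nat.card_prod, ← Nat.card_prod]
  refine Nat.card_congr (Equiv.ofBijective (fun s : _ × ↥(N ⊓ C) =>
    ((nh s.1 * ⟨s.2, (mem_inf.1 s.2.2).1⟩, (⟨s.2, (mem_inf.1 s.2.2).2⟩ : ↥C)⁻¹ * ch s.1) : ↥N × ↥C))
    ⟨?_, ?_⟩)
  · rintro ⟨h, d⟩ ⟨h', d'⟩ e
    have e1 : (nh h : G) * d = (nh h' : G) * d' := congrArg Subtype.val (congrArg Prod.fst e)
    have e2 : (d : G)⁻¹ * (ch h : G) = (d' : G)⁻¹ * (ch h' : G) :=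
      congrArg Subtype.val (congrArg Prod.snd e)
    have hh : h = h' := Subtype.ext (by
      rw [hnc h, hnc h']
      calc (nh h : G) * ch h = ((nh h : G) * d) * ((d : G)⁻¹ * ch h) := by group
        _ = (nh h' : G) * ch h' := by rw [e1, e2]; group)
    subst hh
    exact Prod.ext rfl (Subtype.ext (mul_left_cancel e1))
  · rintro ⟨n, c⟩
    have hcw : (c : G) * w * (c : G)⁻¹ = w := by
      rw [mem_centralizer_singleton_iff.1 c.2, mul_inv_cancel_right]
    have hmem : (n : G) * c * w * ((n : G) * c)⁻¹ ∈ (P : Subgroup G) := by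
      have h1 := (mem_normalizer_iff.1 n.2 w).1 hw
      rwa [show (n : G) * c * w * ((n : G) * c)⁻¹ = n * ((c : G) * w * (c : G)⁻¹) * (n : G)⁻¹ by group,
        hcw]
    set h : {h : G // h * w * h⁻¹ ∈ (P : Subgroup G)} := ⟨(n : G) * c, hmem⟩
    have hd : (nh h : G)⁻¹ * n = (ch h : G) * (c : G)⁻¹ := by
      rw [eq_mul_inv_iff_mul_eq, mul_assoc, show (n : G) * c = (nh h : G) * ch h from hnc h,
        inv_mul_cancel_left]
    refine ⟨(h, ⟨(nh h : G)⁻¹ * n, mem_inf.2 ⟨mul_mem (inv_mem (nh h).2) n.2,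
      hd ▸ mul_mem (ch h).2 (inv_mem c.2)⟩⟩), Prod.ext (Subtype.ext ?_) (Subtype.ext ?_)⟩
    · exact mul_inv_cancel_left _ _
    · show ((nh h : G)⁻¹ * n)⁻¹ * (ch h : G) = c
      rw [hd]; group

theorem Min.singular_card (hG : Min p G) (P : Sylow p G) [Fintype {v : G // v ∈ (P : Subgroup G) ∧ v ≠ 1}] :
    (Nat.card {x : G // p ∣ orderOf x} : ℚ) * Nat.card ↥(normalizer ((P : Subgroup G) : Set G)) =
      Nat.card G * ∑ v : {v : G // v ∈ (P : Subgroup G) ∧ v ≠ 1},
        ((Nat.card ↥(normalizer ((P : Subgroup G) : Set G) ⊓ centralizer ({(v : G)} : Set G)) : ℚ) *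
          cCnt p (v : G) / Nat.card ↥(centralizer ({(v : G)} : Set G))) := by
  classical
  letI := Fintype.ofFinite G
  set N := normalizer ((P : Subgroup G) : Set G) with hN
  let V := {v : G // v ∈ (P : Subgroup G) ∧ v ≠ 1}
  let pel := {v : G // IsPGroup p ↥(zpowers v) ∧ v ≠ 1}
  have hpel : ∀ (g : G) (v : V), IsPGroup p ↥(zpowers (g * (v : G) * g⁻¹)) ∧ g * (v : G) * g⁻¹ ≠ 1 := by
    intro g v
    refine ⟨?_, by rw [ne_eq, conj_eq_one_iff]; exact v.2.2⟩
    have h1 := (P.isPGroup'.to_le (zpowers_le.2 v.2.1)).map (MulAut.conj g).toMonoidHom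
    rw [MonoidHom.map_zpowers] at h1
    exact h1
  let φ : G × V → pel := fun s => ⟨s.1 * (s.2 : G) * s.1⁻¹, hpel s.1 s.2⟩
  let f : G × V → ℚ := fun s => (cCnt p (s.2 : G) : ℚ) *
    Nat.card ↥(N ⊓ centralizer ({(s.2 : G)} : Set G)) / Nat.card ↥(centralizer ({(s.2 : G)} : Set G))
  have hfib : ∀ v0 : pel, ∑ s ∈ Finset.univ.filter (fun s => φ s = v0), f s =
      (Nat.card ↥N : ℚ) * cCnt p (v0 : G) := by
    intro v0
    obtain ⟨S, hS⟩ := v0.2.1.exists_le_sylow
    obtain ⟨g, hg⟩ := MulAction.exists_smul_eq G S P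
    have hwP : g * (v0 : G) * g⁻¹ ∈ (P : Subgroup G) := by
      rw [← hg, Sylow.coe_subgroup_smul]
      exact ⟨_, hS (mem_zpowers _), rfl⟩
    set w := g * (v0 : G) * g⁻¹ with hw
    have hcC : ∀ h : G, Nat.card ↥(N ⊓ centralizer ({h * w * h⁻¹} : Set G)) *
        Nat.card ↥(centralizer ({w} : Set G)) = if h * w * h⁻¹ ∈ (P : Subgroup G) then
          Nat.card ↥(N ⊓ centralizer ({w} : Set G)) * Nat.card ↥(centralizer ({h * w * h⁻¹} : Set G))
        else Nat.card ↥(N ⊓ centralizer ({h * w * h⁻¹} : Set G)) *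
          Nat.card ↥(centralizer ({w} : Set G)) := by
      intro h
      split_ifs with hh
      swap
      · rfl
      obtain ⟨n, hn, c, hc, rfl⟩ := hG.sylow_ctrl P (zpowers w) (zpowers_le.2 hwP) h
        (by rw [MonoidHom.map_zpowers]; exact zpowers_le.2 hh)
      have hcw : c * w * c⁻¹ = w := by
        rw [← mem_centralizer_iff.1 hc w (mem_zpowers w), mul_inv_cancel_right]
      have he : n * c * w * (n * c)⁻¹ = n * w * n⁻¹ := by
        calc n * c * w * (n * c)⁻¹ = n * (c * w * c⁻¹) * n⁻¹ := by group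
          _ = n * w * n⁻¹ := by rw [hcw]
      rw [he]
      have hmC : ∀ (a b : G), (centralizer ({b} : Set G)).map (MulAut.conj a).toMonoidHom =
          centralizer ({a * b * a⁻¹} : Set G) := fun a b => by
        ext x
        constructor
        · rintro ⟨y, hy, rfl⟩
          refine mem_centralizer_singleton_iff.2 ?_
          show a * y * a⁻¹ * (a * b * a⁻¹) = a * b * a⁻¹ * (a * y * a⁻¹)
          calc a * y * a⁻¹ * (a * b * a⁻¹) = a * (y * b) * a⁻¹ := by group
            _ = _ := by rw [mem_centralizer_singleton_iff.1 hy]; group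
        · intro hx
          refine ⟨a⁻¹ * x * a, mem_centralizer_singleton_iff.2 ?_, by simp [mul_assoc]⟩
          calc a⁻¹ * x * a * b = a⁻¹ * (x * (a * b * a⁻¹)) * a := by group
            _ = b * (a⁻¹ * x * a) := by rw [mem_centralizer_singleton_iff.1 hx]; group
      have h1 : Nat.card ↥(centralizer ({n * w * n⁻¹} : Set G)) =
          Nat.card ↥(centralizer ({w} : Set G)) := by
        rw [← hmC, card_map_of_injective (MulAut.conj n).injective]
      have h2 : Nat.card ↥(N ⊓ centralizer ({n * w * n⁻¹} : Set G)) =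
          Nat.card ↥(N ⊓ centralizer ({w} : Set G)) := by
        have hNn : N.map (MulAut.conj n).toMonoidHom = N := map_conj_eq_self_iff.2 (le_normalizer hn)
        have h5 : Nat.card ↥((N ⊓ centralizer ({w} : Set G)).map (MulAut.conj n).toMonoidHom) =
            Nat.card ↥(N ⊓ centralizer ({w} : Set G)) := card_map_of_injective (MulAut.conj n).injective
        rw [← h5, Subgroup.map_inf _ _ _ (MulAut.conj n).injective, hNn, hmC]
      rw [h1, h2]
    have hequiv : Nat.card {s : G × V // φ s = v0} = Nat.card {h : G // h * w * h⁻¹ ∈ (P : Subgroup G)} := by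
      refine Nat.card_congr
        { toFun := fun s => ⟨s.1.1⁻¹ * g⁻¹, ?_⟩
          invFun := fun h => ⟨((g⁻¹ * h.1⁻¹ : G), ⟨h.1 * w * h.1⁻¹, h.2, ?_⟩), ?_⟩
          left_inv := ?_
          right_inv := ?_ }
      · have e : s.1.1 * (s.1.2 : G) * s.1.1⁻¹ = v0 := congrArg Subtype.val s.2
        rw [show s.1.1⁻¹ * g⁻¹ * w * (s.1.1⁻¹ * g⁻¹)⁻¹ = (s.1.2 : G) by rw [hw, ← e]; group]
        exact s.1.2.2.1
      · rw [ne_eq, conj_eq_one_iff, hw, conj_eq_one_iff]; exact v0.2.2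
      · refine Subtype.ext ?_
        show g⁻¹ * h.1⁻¹ * (h.1 * w * h.1⁻¹) * (g⁻¹ * h.1⁻¹)⁻¹ = (v0 : G)
        calc g⁻¹ * h.1⁻¹ * (h.1 * w * h.1⁻¹) * (g⁻¹ * h.1⁻¹)⁻¹ = g⁻¹ * w * g := by group
          _ = g⁻¹ * (g * (v0 : G) * g⁻¹) * g := congrArg (fun z => g⁻¹ * z * g) hw
          _ = (v0 : G) := by group
      · intro s
        have e : s.1.1 * (s.1.2 : G) * s.1.1⁻¹ = v0 := congrArg Subtype.val s.2
        refine Subtype.ext (Prod.ext ?_ (Subtype.ext ?_))
        · show g⁻¹ * (s.1.1⁻¹ * g⁻¹)⁻¹ = s.1.1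
          group
        · show s.1.1⁻¹ * g⁻¹ * w * (s.1.1⁻¹ * g⁻¹)⁻¹ = (s.1.2 : G)
          rw [hw, ← e]; group
      · intro h
        refine Subtype.ext ?_
        show (g⁻¹ * h.1⁻¹)⁻¹ * g⁻¹ = h.1
        group
    have hval : ∀ s ∈ Finset.univ.filter (fun s => φ s = v0), f s = (cCnt p (v0 : G) : ℚ) *
        Nat.card ↥(N ⊓ centralizer ({w} : Set G)) / Nat.card ↥(centralizer ({w} : Set G)) := by
      intro s hs
      rw [Finset.mem_filter] at hs
      have e : s.1 * (s.2 : G) * s.1⁻¹ = v0 := congrArg Subtype.val hs.2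
      have e' : s.1⁻¹ * g⁻¹ * w * (s.1⁻¹ * g⁻¹)⁻¹ = (s.2 : G) := by rw [hw, ← e]; group
      have h3 := hcC (s.1⁻¹ * g⁻¹)
      rw [e', if_pos s.2.2.1] at h3
      have h4 : cCnt p (s.2 : G) = cCnt p (v0 : G) := by rw [← e, cCnt_conj]
      have hpos1 : (0 : ℚ) < Nat.card ↥(centralizer ({(s.2 : G)} : Set G)) := by exact_mod_cast Nat.card_pos
      have hpos2 : (0 : ℚ) < Nat.card ↥(centralizer ({w} : Set G)) := by exact_mod_cast Nat.card_pos
      have h3' : (Nat.card ↥(N ⊓ centralizer ({(s.2 : G)} : Set G)) : ℚ) *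
          Nat.card ↥(centralizer ({w} : Set G)) = (Nat.card ↥(N ⊓ centralizer ({w} : Set G)) : ℚ) *
          Nat.card ↥(centralizer ({(s.2 : G)} : Set G)) := by exact_mod_cast h3
      show (cCnt p (s.2 : G) : ℚ) * _ / _ = _
      rw [h4, div_eq_div_iff hpos1.ne' hpos2.ne', mul_assoc, h3', ← mul_assoc]
    rw [Finset.sum_congr rfl hval, Finset.sum_const, nsmul_eq_mul,
      show (Finset.univ.filter (fun s => φ s = v0)).card = Nat.card {s : G × V // φ s = v0} by
        rw [Nat.card_eq_fintype_card, Fintype.card_subtype], hequiv]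
    have hkey : (Nat.card {h : G // h * w * h⁻¹ ∈ (P : Subgroup G)} : ℚ) *
        Nat.card ↥(N ⊓ centralizer ({w} : Set G)) =
        (Nat.card ↥N : ℚ) * Nat.card ↥(centralizer ({w} : Set G)) := by
      exact_mod_cast hG.card_conj_into P hwP
    have hpos2 : (0 : ℚ) < Nat.card ↥(centralizer ({w} : Set G)) := by exact_mod_cast Nat.card_pos
    rw [← mul_div_assoc, div_eq_iff hpos2.ne', mul_comm (cCnt p (v0 : G) : ℚ), ← mul_assoc, hkey]
    ring
  have hlhs : (Nat.card {x : G // p ∣ orderOf x} : ℚ) * Nat.card ↥N = ∑ s : G × V, f s := by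
    rw [← Finset.sum_fiberwise Finset.univ φ f, Finset.sum_congr rfl (fun v0 _ => hfib v0),
      ← Finset.mul_sum, card_singular_eq, Nat.card_sigma, Nat.cast_sum, mul_comm]
    rfl
  rw [hlhs, Fintype.sum_prod_type, Nat.card_eq_fintype_card (α := G), Finset.mul_sum, Finset.sum_comm]
  refine Finset.sum_congr rfl fun v _ => ?_
  simp only [f, Finset.sum_const, Finset.card_univ, nsmul_eq_mul]
  ring

end CfsgLib.Techniques.PPA
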