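import Cfsg.Agent.Lib.Techniques.PPrimeAbelian.Good
import Cfsg.Agent.Lib.Techniques.PPrimeAbelian.Omega
import Cfsg.Agent.Lib.Signalizer.Transitivity

/-!
The abelian `p'`-subgroups `E` which contain the centralizers' `p'`-parts: they partition the `p'`-elements.
-/

set_option autoImplicit false
set_option linter.unusedSectionVars false
set_option linter.style.haveILetI false

namespace CfsgLib.Techniques.PPA

open Subgroup
open scoped commutatorElement Pointwise

universe u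

variable {G : Type u} [Group G] {p : ℕ}

/-- In a solvable group with abelian Sylow `q`-subgroup `S`, `S` maps onto `O_q` of the `q'`-core quotient. -/
theorem sylow_map_eq_pCore {K : Type u} [Group K] [Finite K] [Group.IsSolvable K] {q : ℕ} [Fact q.Prime]
    (S : Sylow q K) (hc : IsMulCommutative ↥(S : Subgroup K)) :
    (S : Subgroup K).map (QuotientGroup.mk' (Cfsg.pPrimeCore q K)) =
      Cfsg.pCore q (K ⧸ Cfsg.pPrimeCore q K) := by
  set f := QuotientGroup.mk' (Cfsg.pPrimeCore q K)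
  have hF : Cfsg.pCore q (K ⧸ Cfsg.pPrimeCore q K) ≤ (S : Subgroup K).map f := by
    have := CfsgLib.PCore.pCore_le_sylow (S.mapSurjective (QuotientGroup.mk'_surjective (Cfsg.pPrimeCore q K)))
    rwa [Sylow.coe_mapSurjective] at this
  refine le_antisymm ((le_trans (fun z hz => mem_centralizer_iff.2 fun w hw => ?_)
    (CfsgLib.PCore.centralizer_pCore_le CfsgLib.PCore.isPSolvable_of_isSolvable
      CfsgLib.PCore.pPrimeCore_quotient_pPrimeCore))) hF
  obtain ⟨a, ha, rfl⟩ := hz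
  obtain ⟨b, hb, rfl⟩ := hF hw
  rw [← map_mul, ← map_mul]
  exact congrArg f (congrArg Subtype.val (hc.is_comm.comm ⟨b, hb⟩ ⟨a, ha⟩))

variable [hp : Fact p.Prime] [Finite G]

namespace Min

variable (hG : Min p G) {q : ℕ} [hq : Fact q.Prime] (hqp : q ≠ p)
include hG hqp

/-- All elements of order `q` of a `q`-subgroup containing `A = om q Q` lie in `A`. -/
theorem mem_om_of_le (Q : Sylow q G) {X : Subgroup G} (hX : IsPGroup q ↥X)
    (hA : om q (Q : Subgroup G) ≤ X) {x : G} (hx : x ∈ X) (hxq : x ^ q = 1) : x ∈ om q (Q : Subgroup G) := by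
  obtain ⟨Q1, hQ1⟩ := hX.exists_le_sylow
  have hc := hG.sylow_comm hqp Q
  have hc1 := hG.sylow_comm hqp Q1
  have hle : om q (Q : Subgroup G) ≤ om q (Q1 : Subgroup G) := fun a ha =>
    (mem_om q hc1).2 ⟨hQ1 (hA ha), ((mem_om q hc).1 ha).2⟩
  obtain ⟨g, hg⟩ := MulAction.exists_smul_eq G Q1 Q
  have hsub : (om q (Q1 : Subgroup G)).map (MulAut.conj g).toMonoidHom ≤ om q (Q : Subgroup G) := by
    rintro _ ⟨a, ha, rfl⟩
    refine conj_mem_om q (fun y hy => ?_) ha
    show g * y * g⁻¹ ∈ (Q : Subgroup G)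
    rw [← hg, Sylow.coe_subgroup_smul]
    exact ⟨y, hy, rfl⟩
  have hcard := card_le_of_le hsub
  rw [card_map_of_injective (MulAut.conj g).injective] at hcard
  exact (eq_of_le_of_card_ge hle hcard).ge ((mem_om q hc1).2 ⟨hQ1 hx, hxq⟩)

/-- An element of order `q` of the image of a Sylow subgroup lifts into `A`. -/
theorem exists_lift_om (Q : Sylow q G) {H : Subgroup G} (hH : H ≠ ⊤)
    (hAH : om q (Q : Subgroup G) ≤ H) {z : ↥H ⧸ Cfsg.pPrimeCore q ↥H}
    (hz : z ∈ Cfsg.pCore q (↥H ⧸ Cfsg.pPrimeCore q ↥H)) (hzq : z ^ q = 1) :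
    ∃ s : ↥H, (s : G) ∈ om q (Q : Subgroup G) ∧ QuotientGroup.mk' (Cfsg.pPrimeCore q ↥H) s = z := by
  haveI := hG.sol H hH
  have hAp : IsPGroup q ↥((om q (Q : Subgroup G)).subgroupOf H) :=
    (Q.isPGroup'.to_le (om_le q _)).comap_subtype
  obtain ⟨S, hS⟩ := hAp.exists_le_sylow
  set S' := (S : Subgroup ↥H).map H.subtype with hS'
  have hS'p : IsPGroup q ↥S' := S.isPGroup'.map _
  have hAS : om q (Q : Subgroup G) ≤ S' := fun a ha =>
    ⟨⟨a, hAH ha⟩, hS (mem_subgroupOf.2 ha), rfl⟩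
  have hc : IsMulCommutative ↥(S : Subgroup ↥H) := by
    obtain ⟨Q1, hQ1⟩ := hS'p.exists_le_sylow
    have hc1 := hG.sylow_comm hqp Q1
    exact ⟨⟨fun a b => Subtype.ext (Subtype.ext (congrArg Subtype.val (α := ↥(Q1 : Subgroup G))
      (hc1.is_comm.comm ⟨_, hQ1 (mem_map_of_mem H.subtype a.2)⟩
        ⟨_, hQ1 (mem_map_of_mem H.subtype b.2)⟩)))⟩⟩
  rw [← sylow_map_eq_pCore S hc] at hz
  obtain ⟨s, hs, rfl⟩ := hz
  refine ⟨s, hG.mem_om_of_le hqp Q hS'p hAS (mem_map_of_mem H.subtype hs) ?_, rfl⟩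
  have h1 : s ^ q ∈ (S : Subgroup ↥H) ⊓ Cfsg.pPrimeCore q ↥H :=
    mem_inf.2 ⟨pow_mem hs q, (QuotientGroup.eq_one_iff _).1 (by simpa using hzq)⟩
  rw [CfsgLib.PCore.inf_eq_bot_of_isPGroup_coprime (p := q) S.isPGroup'
    CfsgLib.PCore.pPrimeCore_coprime, mem_bot] at h1
  simpa using congrArg Subtype.val h1

/-- An `A`-invariant `q'`-subgroup of a proper subgroup containing `A` lies in its `q'`-core. -/
theorem le_core (Q : Sylow q G) {H U : Subgroup G} (hH : H ≠ ⊤) (hAH : om q (Q : Subgroup G) ≤ H)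
    (hUH : U ≤ H) (hAU : om q (Q : Subgroup G) ≤ normalizer (U : Set G))
    (hU : (Nat.card ↥U).Coprime q) : U ≤ (Cfsg.pPrimeCore q ↥H).map H.subtype := by
  intro r hr
  haveI := hG.sol H hH
  set O := Cfsg.pPrimeCore q ↥H
  set f := QuotientGroup.mk' O with hf
  set F := Cfsg.pCore q (↥H ⧸ O) with hFdef
  refine ⟨⟨r, hUH hr⟩, (QuotientGroup.eq_one_iff _).1 ?_, rfl⟩
  set z := f ⟨r, hUH hr⟩ with hz
  have hcop : (orderOf z).Coprime q := by
    refine hU.coprime_dvd_left ((orderOf_map_dvd f _).trans ?_)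
    rw [Subgroup.orderOf_mk, ← Subgroup.orderOf_mk r hr]
    exact orderOf_dvd_natCard _
  have hFp : IsPGroup q ↥F := CfsgLib.PCore.pCore_isPGroup
  haveI hFn : F.Normal := inferInstance
  have hcl : (om q (Q : Subgroup G)).subgroupOf H ≤ F.comap f := by
    obtain ⟨S, hS⟩ := ((Q.isPGroup'.to_le (om_le q (Q : Subgroup G))).comap_subtype (K := H)).exists_le_sylow
    intro a ha
    have hc : IsMulCommutative ↥(S : Subgroup ↥H) := by
      obtain ⟨Q1, hQ1⟩ := (S.isPGroup'.map H.subtype).exists_le_sylow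
      have hc1 := hG.sylow_comm hqp Q1
      exact ⟨⟨fun a b => Subtype.ext (Subtype.ext (congrArg Subtype.val (α := ↥(Q1 : Subgroup G))
        (hc1.is_comm.comm ⟨_, hQ1 (mem_map_of_mem H.subtype a.2)⟩
          ⟨_, hQ1 (mem_map_of_mem H.subtype b.2)⟩)))⟩⟩
    exact (sylow_map_eq_pCore S hc).le (mem_map_of_mem f (hS ha))
  have hzF : z ∈ F := by
    refine CfsgLib.PCore.centralizer_pCore_le CfsgLib.PCore.isPSolvable_of_isSolvable
      CfsgLib.PCore.pPrimeCore_quotient_pPrimeCore ?_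
    have hc : IsMulCommutative ↥F := by
      obtain ⟨S⟩ : Nonempty (Sylow q ↥H) := inferInstance
      obtain ⟨Q1, hQ1⟩ := (S.isPGroup'.map H.subtype).exists_le_sylow
      have hc1 := hG.sylow_comm hqp Q1
      refine ⟨⟨?_⟩⟩
      rintro ⟨x, hx⟩ ⟨y, hy⟩
      have hle : F ≤ (S : Subgroup ↥H).map f := by
        have := CfsgLib.PCore.pCore_le_sylow (S.mapSurjective (QuotientGroup.mk'_surjective O))
        rwa [Sylow.coe_mapSurjective] at this
      obtain ⟨a, ha, rfl⟩ := hle hx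
      obtain ⟨b, hb, rfl⟩ := hle hy
      refine Subtype.ext ?_
      show f a * f b = f b * f a
      rw [← map_mul, ← map_mul]
      refine congrArg f (Subtype.ext ?_)
      simpa using congrArg Subtype.val
        (hc1.is_comm.comm ⟨_, hQ1 (mem_map_of_mem H.subtype ha)⟩
          ⟨_, hQ1 (mem_map_of_mem H.subtype hb)⟩)
    refine mem_centralizer_of_fixes_om hFp hc hcop (fun x hx => hFn.conj_mem x hx z) fun x hx => ?_
    obtain ⟨hxF, hxq⟩ := (mem_om q hc).1 hx
    obtain ⟨s, hs, rfl⟩ := hG.exists_lift_om hqp Q hH hAH hxF hxq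
    rw [← hf]
    set d := (⟨r, hUH hr⟩ : ↥H) * s * (⟨r, hUH hr⟩ : ↥H)⁻¹ * s⁻¹ with hd
    have hdU : (d : G) ∈ U := by
      have h1 := (mem_normalizer_iff.1 (hAU hs) r⁻¹).1 (inv_mem hr)
      have h2 : (d : G) = r * ((s : G) * r⁻¹ * (s : G)⁻¹) := by simp [hd, mul_assoc]
      rw [h2]
      exact mul_mem hr h1
    have hdF : f d ∈ F := by
      rw [hd, map_mul, map_mul, map_mul, map_inv, map_inv]
      exact mul_mem (hFn.conj_mem _ hxF _) (inv_mem hxF)
    have h1 : f d = 1 := by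
      rw [← orderOf_eq_one_iff]
      obtain ⟨k, hk⟩ := hFp ⟨f d, hdF⟩
      have hk' : f d ^ q ^ k = 1 := by simpa using congrArg Subtype.val hk
      refine Nat.eq_one_of_dvd_coprimes (hU.pow_right k) ?_ (orderOf_dvd_of_pow_eq_one hk')
      refine (orderOf_map_dvd f d).trans ?_
      rw [← orderOf_coe, ← Subgroup.orderOf_mk _ hdU]
      exact orderOf_dvd_natCard _
    rw [hd, map_mul, map_mul, map_mul, map_inv, map_inv, ← hz, mul_inv_eq_one] at h1
    exact h1
  obtain ⟨k, hk⟩ := hFp ⟨z, hzF⟩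
  have hk' : z ^ q ^ k = 1 := by simpa using congrArg Subtype.val hk
  exact orderOf_eq_one_iff.1
    (Nat.eq_one_of_dvd_coprimes (hcop.pow_right k) dvd_rfl (orderOf_dvd_of_pow_eq_one hk'))

/-- `A = om q Q` centralizes each `p`-subgroup it normalizes. -/
theorem om_le_centralizer (Q : Sylow q G) (hQ : (Q : Subgroup G) ≠ ⊥) {R : Subgroup G}
    (hR : IsPGroup p ↥R) (hAR : om q (Q : Subgroup G) ≤ normalizer (R : Set G)) :
    om q (Q : Subgroup G) ≤ centralizer (R : Set G) := by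
  set A := om q (Q : Subgroup G) with hA
  have hAe : Cfsg.IsElementaryAbelian q A := om_isElementaryAbelian q (hG.sylow_comm hqp Q)
  have hA3 : q ^ 3 ≤ Nat.card ↥A := hG.three_le_rank hqp Q hQ
  have hAC : ∀ a ∈ A, A ≤ centralizer ({a} : Set G) := fun a ha b hb =>
    mem_centralizer_singleton_iff.2 (congrArg Subtype.val (hAe.1.is_comm.comm ⟨b, hb⟩ ⟨a, ha⟩))
  set θ : G → Subgroup G := fun a =>
    (Cfsg.pPrimeCore q ↥(centralizer ({a} : Set G))).map (centralizer ({a} : Set G)).subtype with hθ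
  have hθA : ∀ a ∈ A, ∀ b ∈ A, ∀ x ∈ θ a, b * x * b⁻¹ ∈ θ a := by
    rintro a ha b hb _ ⟨y, hy, rfl⟩
    exact ⟨⟨b, hAC a ha hb⟩ * y * ⟨b, hAC a ha hb⟩⁻¹,
      (inferInstance : (Cfsg.pPrimeCore q ↥(centralizer ({a} : Set G))).Normal).conj_mem y hy _, rfl⟩
  have hθq : ∀ a, (Nat.card ↥(θ a)).Coprime q := fun a => by
    rw [hθ, card_subtype]; exact CfsgLib.PCore.pPrimeCore_coprime
  have hcore : ∀ a ∈ A, a ≠ 1 → ∀ U : Subgroup G, A ≤ normalizer (U : Set G) → (Nat.card ↥U).Coprime q →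
      U ⊓ centralizer ({a} : Set G) ≤ θ a := fun a ha ha1 U hAU hU => by
    refine hG.le_core hqp Q (hG.centralizer_ne_top ha1) (hAC a ha) inf_le_right ?_
      (hU.coprime_dvd_left (card_dvd_of_le inf_le_left))
    exact (le_inf hAU ((hAC a ha).trans le_normalizer)).trans inf_normalizer_le_normalizer_inf
  have hfun : Cfsg.IsSolvableSignalizerFunctor q A θ := by
    refine ⟨⟨fun a _ _ => map_subtype_le _, fun a _ _ hd => ?_, fun a ha _ => hθA a ha,
      fun a ha _ b hb hb1 => hcore b hb hb1 (θ a) (le_normalizer_iff.2 (hθA a ha)) (hθq a)⟩,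
      fun a _ ha1 => ?_⟩
    · exact hq.out.coprime_iff_not_dvd.1 (hθq a).symm hd
    · haveI := hG.isSolvable_centralizer ha1
      exact Group.isSolvable_of_surjective (f := (equivMapOfInjective
        (Cfsg.pPrimeCore q ↥(centralizer ({a} : Set G))) _ (subtype_injective _)).toMonoidHom)
        (MulEquiv.surjective _)
  have hmem : ∀ U : Subgroup G, IsPGroup p ↥U → A ≤ normalizer (U : Set G) →
      U ∈ Cfsg.signalizerFamily q A θ := fun U hU hAU => by
    obtain ⟨k, hk⟩ := IsPGroup.iff_card.1 hU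
    have hco : (Nat.card ↥U).Coprime q := by
      rw [hk]; exact ((Nat.coprime_primes hp.out hq.out).2 (Ne.symm hqp)).pow_left k
    exact ⟨hG.pgroup_solvable hU, hq.out.coprime_iff_not_dvd.1 hco.symm,
      fun b hb u hu => (mem_normalizer_iff.1 (hAU hb) u).1 hu, fun a ha ha1 => hcore a ha ha1 U hAU hco⟩
  obtain ⟨R', hR', hRR'⟩ := CfsgLib.Signalizer.exists_maxQMember_ge (hmem R hR hAR) hR
  refine le_trans ?_ (centralizer_le (SetLike.coe_subset_coe.2 hRR'))
  rcases eq_or_ne R' ⊥ with rfl | hne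
  · intro a _; exact mem_centralizer_iff.2 fun x hx => by simp [mem_bot.1 hx]
  have hAR' : A ≤ normalizer (R' : Set G) := CfsgLib.Signalizer.le_normalizer_of_conj hR'.1.2.2.1
  set H := normalizer (R' : Set G) with hH
  have hHne : H ≠ ⊤ := hG.normalizer_ne_top hR'.1.1 hne
  set O := (Cfsg.pPrimeCore p ↥H).map H.subtype with hO
  have hAO : A ≤ A ⊓ O := by
    refine hG.le_of_trivial_mod hqp Q (om_le q _) fun n hn a ha => ?_
    have hnA := normalizer_le_normalizer_om q (Q : Subgroup G) hn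
    have hmax : CfsgLib.Signalizer.IsMaxQMember q p A θ (R'.map (MulAut.conj n).toMonoidHom) := by
      have hinv : ∀ (m : G), m ∈ normalizer (A : Set G) → ∀ U : Subgroup G, A ≤ normalizer (U : Set G) →
          A ≤ normalizer ((U.map (MulAut.conj m).toMonoidHom : Subgroup G) : Set G) := by
        intro m hm U hU b hb
        have h1 : m⁻¹ * b * m ∈ A := by
          have := (mem_normalizer_iff.1 (inv_mem hm) b).1 hb
          simpa using this
        have h2 := le_normalizer_map (H := U) (MulAut.conj m).toMonoidHom (mem_map_of_mem _ (hU h1))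
        simpa [mul_assoc] using h2
      refine ⟨hmem _ (hR'.2.1.map _) (hinv n hnA R' hAR'), hR'.2.1.map _, fun S hS hSp hle => ?_⟩
      have h1 := hR'.2.2 (S.map (MulAut.conj n⁻¹).toMonoidHom) (hmem _ (hSp.map _) (hinv _ (inv_mem hnA) S
        (CfsgLib.Signalizer.le_normalizer_of_conj hS.2.2.1))) (hSp.map _)
        fun x hx => ⟨_, hle (mem_map_of_mem _ hx), by simp [mul_assoc]⟩
      refine le_antisymm (fun x hx => ?_) hle
      have hx' : n⁻¹ * x * n ∈ R' := h1 ▸ ⟨x, hx, by simp⟩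
      exact ⟨_, hx', by simp [mul_assoc]⟩
    obtain ⟨c, hc, hce⟩ := CfsgLib.Signalizer.transitivity hAe hA3 hfun hmax hR'
    have hcA : ∀ b ∈ A, b * c = c * b := fun b hb => by
      rcases eq_or_ne b 1 with rfl | hb1
      · simp
      · have h1 : c ∈ θ b := CfsgLib.Signalizer.signalizerInf_le hb hb1 hc
        exact (mem_centralizer_singleton_iff.1 (map_subtype_le _ h1)).symm
    set m := c * n with hm
    have hmH : m ∈ H := by
      rw [hH, ← map_conj_eq_self_iff, hm, ← CfsgLib.Signalizer.conj_map_map, hce]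
    have hma : m * a * m⁻¹ = n * a * n⁻¹ := by
      have hb := hcA _ ((mem_normalizer_iff.1 hnA a).1 ha)
      calc m * a * m⁻¹ = c * (n * a * n⁻¹) * c⁻¹ := by rw [hm]; group
        _ = n * a * n⁻¹ := by rw [← hb, mul_inv_cancel_right]
    have hmA : m ∈ normalizer (A : Set G) := mul_mem (centralizer_le_normalizer _
      (mem_centralizer_iff.2 hcA)) hnA
    obtain ⟨u, v, e, -, hu, hv, hup, hvp⟩ := exists_parts (p := p) m
    have huH := zpowers_le.2 hmH hu
    have huA := zpowers_le.2 hmA hu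
    have hvc := hG.ab.mem_centralizer (hG.coprime_of_isPGroup hqp (Q.isPGroup'.to_le (om_le q _))) hvp
      (zpowers_le.2 hmA hv)
    have hva : v * a * v⁻¹ = a := by rw [← mem_centralizer_iff.1 hvc a ha, mul_inv_cancel_right]
    refine mem_inf.2 ⟨mul_mem ((mem_normalizer_iff.1 hnA a).1 ha) (inv_mem ha), ?_⟩
    rw [← hma, show m * a * m⁻¹ = u * a * u⁻¹ by
      rw [e]; calc u * v * a * (u * v)⁻¹ = u * (v * a * v⁻¹) * u⁻¹ := by group
        _ = u * a * u⁻¹ := by rw [hva]]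
    refine ⟨⟨u, huH⟩ * ⟨a, hAR' ha⟩ * ⟨u, huH⟩⁻¹ * ⟨a, hAR' ha⟩⁻¹, ?_, rfl⟩
    refine (hG.good hHne).commutator_mem (X := A.subgroupOf H) ?_ ?_ ?_ (mem_subgroupOf.2 ha)
    · rw [Nat.card_congr (subgroupOfEquivOfLe hAR').toEquiv]
      exact hG.coprime_of_isPGroup hqp (Q.isPGroup'.to_le (om_le q _))
    · intro x
      obtain ⟨k, hk⟩ := hup ⟨(x : ↥H), by
        obtain ⟨i, hi⟩ := mem_zpowers_iff.1 x.2
        rw [← hi, SubgroupClass.coe_zpow]
        exact zpow_mem (mem_zpowers u) i⟩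
      exact ⟨k, Subtype.ext (Subtype.ext (by simpa using congrArg Subtype.val hk))⟩
    · rw [mem_normalizer_iff]
      exact fun x => mem_normalizer_iff.1 huA (x : G)
  intro a ha
  obtain ⟨o, ho, hoa⟩ := (mem_inf.1 (hAO ha)).2
  refine mem_centralizer_iff.2 fun x hx => ?_
  have hxH : x ∈ H := le_normalizer hx
  have hn : (R'.subgroupOf H).Normal := normal_subgroupOf_of_le_normalizer le_rfl
  have h1 : o ∈ centralizer (Cfsg.pCore p ↥H : Set ↥H) :=
    CfsgLib.PCore.pPrimeCore_le_centralizer_pCore ho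
  have h2 := mem_centralizer_iff.1 h1 ⟨x, hxH⟩
    (CfsgLib.PCore.le_pCore hn (hR'.2.1.comap_subtype (K := H)) (mem_subgroupOf.2 hx))
  rw [← hoa]
  exact congrArg Subtype.val h2

/-- A proper subgroup containing `A = om q Q` normalizes it. -/
theorem le_normalizer_om (Q : Sylow q G) (hQ : (Q : Subgroup G) ≠ ⊥) {H : Subgroup G} (hH : H ≠ ⊤)
    (hAH : om q (Q : Subgroup G) ≤ H) : H ≤ normalizer (om q (Q : Subgroup G) : Set G) := by
  classical
  haveI := hG.sol H hH
  set A := om q (Q : Subgroup G) with hA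
  set K := (Cfsg.pPrimeCore q ↥H).map H.subtype with hK
  have hAq : IsPGroup q ↥A := Q.isPGroup'.to_le (om_le q _)
  have hKq : (Nat.card ↥K).Coprime q := by rw [hK, card_subtype]; exact CfsgLib.PCore.pPrimeCore_coprime
  have hAK : A ≤ normalizer (K : Set G) := fun a ha =>
    CfsgLib.Structure.normalizer_le_normalizer_map_subtype H (Cfsg.pPrimeCore q ↥H)
      (le_normalizer (hAH ha))
  have hcop : (Nat.card ↥A).Coprime (Nat.card ↥K) := by
    obtain ⟨k, hk⟩ := IsPGroup.iff_card.1 hAq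
    rw [hk]; exact hKq.symm.pow_left k
  have hKA : K ≤ centralizer (A : Set G) := by
    have hKC : K ⊓ centralizer (A : Set G) = K := by
      refine eq_of_le_of_card_ge inf_le_left (Nat.le_of_dvd Nat.card_pos ?_)
      refine (Nat.dvd_iff_prime_pow_dvd_dvd _ _).2 fun ℓ k hℓ hd => ?_
      haveI := Fact.mk hℓ
      obtain ⟨S, hS⟩ := CfsgLib.Coprime.exists_invariant_sylow A K hAK hcop
        (Or.inl (by haveI := hAq.isNilpotent; infer_instance)) ℓ
      set S' := (S : Subgroup ↥K).map K.subtype with hS'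
      have hSp : IsPGroup ℓ ↥S' := S.isPGroup'.map _
      have hcen : A ≤ centralizer (S' : Set G) := by
        rcases eq_or_ne ℓ p with rfl | hne
        · exact hG.om_le_centralizer hqp Q hQ hSp hS
        · intro a ha
          refine hG.ab.mem_centralizer (hG.coprime_of_isPGroup hne hSp) ?_ (hS ha)
          refine (hG.coprime_of_isPGroup hqp hAq).coprime_dvd_left ?_
          rw [← Subgroup.orderOf_mk a ha]
          exact orderOf_dvd_natCard _
      have hSC : S' ≤ K ⊓ centralizer (A : Set G) :=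
        le_inf (map_subtype_le _) (Subgroup.le_centralizer_iff.1 hcen)
      refine dvd_trans ?_ (card_dvd_of_le hSC)
      rw [hS', card_subtype, S.card_eq_multiplicity]
      exact pow_dvd_pow ℓ ((hℓ.pow_dvd_iff_le_factorization Nat.card_pos.ne').1 hd)
    exact hKC.ge.trans inf_le_right
  refine le_normalizer_iff.2 fun h hh a ha => ?_
  have hFn : (Cfsg.pCore q (↥H ⧸ Cfsg.pPrimeCore q ↥H)).Normal := inferInstance
  obtain ⟨S, hS⟩ := (hAq.comap_subtype (K := H)).exists_le_sylow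
  have hc : IsMulCommutative ↥(S : Subgroup ↥H) := by
    obtain ⟨Q1, hQ1⟩ := (S.isPGroup'.map H.subtype).exists_le_sylow
    have hc1 := hG.sylow_comm hqp Q1
    exact ⟨⟨fun a b => Subtype.ext (Subtype.ext (congrArg Subtype.val (α := ↥(Q1 : Subgroup G))
      (hc1.is_comm.comm ⟨_, hQ1 (mem_map_of_mem H.subtype a.2)⟩
        ⟨_, hQ1 (mem_map_of_mem H.subtype b.2)⟩)))⟩⟩
  set f := QuotientGroup.mk' (Cfsg.pPrimeCore q ↥H)
  set a' : ↥H := ⟨h, hh⟩ * ⟨a, hAH ha⟩ * ⟨h, hh⟩⁻¹
  have haq : a ^ q = 1 := ((mem_om q (hG.sylow_comm hqp Q)).1 ha).2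
  have ha'q : a' ^ q = 1 := by
    rw [conj_pow, show (⟨a, hAH ha⟩ : ↥H) ^ q = 1 from Subtype.ext (by simpa using haq), mul_one,
      mul_inv_cancel]
  have hzF : f a' ∈ Cfsg.pCore q (↥H ⧸ Cfsg.pPrimeCore q ↥H) := by
    rw [map_mul, map_mul, map_inv]
    exact hFn.conj_mem _ ((sylow_map_eq_pCore S hc).le (mem_map_of_mem f (hS (mem_subgroupOf.2 ha)))) _
  obtain ⟨s, hs, hse⟩ := hG.exists_lift_om hqp Q hH hAH hzF (by rw [← map_pow, ha'q, map_one])
  have ho : s⁻¹ * a' ∈ Cfsg.pPrimeCore q ↥H :=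
    (QuotientGroup.eq_one_iff _).1 (by
      show f (s⁻¹ * a') = 1
      rw [map_mul, map_inv, hse, inv_mul_cancel])
  have hoK : ((s⁻¹ * a' : ↥H) : G) ∈ K := mem_map_of_mem H.subtype ho
  have hcomm : Commute (s : G) ((s⁻¹ * a' : ↥H) : G) := mem_centralizer_iff.1 (hKA hoK) _ hs
  have hprod : (a' : G) = (s : G) * ((s⁻¹ * a' : ↥H) : G) := by simp [mul_assoc]
  have hoq : ((s⁻¹ * a' : ↥H) : G) ^ q = 1 := by
    have h1 : (a' : G) ^ q = 1 := by simpa using congrArg Subtype.val ha'q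
    rwa [hprod, hcomm.mul_pow, ((mem_om q (hG.sylow_comm hqp Q)).1 hs).2, one_mul] at h1
  have hd2 := orderOf_dvd_natCard (⟨_, hoK⟩ : ↥K)
  rw [Subgroup.orderOf_mk] at hd2
  have hone : ((s⁻¹ * a' : ↥H) : G) = 1 := orderOf_eq_one_iff.1
    (Nat.eq_one_of_dvd_coprimes hKq hd2 (orderOf_dvd_of_pow_eq_one hoq))
  show (a' : G) ∈ A
  rw [hprod, hone, mul_one]
  exact hs

end Min

/-- An abelian `p'`-subgroup containing the `p'`-elements of its normalizer and of its centralizers. -/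
structure IsType (p : ℕ) (E : Subgroup G) : Prop where
  ne_bot : E ≠ ⊥
  coprime : (Nat.card ↥E).Coprime p
  comm : ∀ x ∈ E, ∀ y ∈ E, x * y = y * x
  mem : ∀ y ∈ normalizer (E : Set G), (orderOf y).Coprime p → y ∈ E
  cent : ∀ y ∈ E, y ≠ 1 → centralizer ({y} : Set G) ≤ normalizer (E : Set G)

theorem IsType.orderOf_coprime {E : Subgroup G} (hE : IsType p E) {y : G} (hy : y ∈ E) :
    (orderOf y).Coprime p := by
  refine hE.coprime.coprime_dvd_left ?_
  rw [← Subgroup.orderOf_mk y hy]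
  exact orderOf_dvd_natCard _

theorem IsType.unique {E E' : Subgroup G} (hE : IsType p E) (hE' : IsType p E') {y : G} (hy : y ∈ E)
    (hy' : y ∈ E') (hne : y ≠ 1) : E = E' := by
  refine le_antisymm (fun x hx => ?_) (fun x hx => ?_)
  · exact hE'.mem x (hE'.cent y hy' hne (mem_centralizer_singleton_iff.2 (hE.comm x hx y hy)))
      (hE.orderOf_coprime hx)
  · exact hE.mem x (hE.cent y hy hne (mem_centralizer_singleton_iff.2 (hE'.comm x hx y hy')))
      (hE'.orderOf_coprime hx)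

theorem IsType.conj {E : Subgroup G} (hE : IsType p E) (g : G) :
    IsType p (E.map (MulAut.conj g).toMonoidHom) := by
  have hN : normalizer ((E.map (MulAut.conj g).toMonoidHom : Subgroup G) : Set G) =
      (normalizer (E : Set G)).map (MulAut.conj g).toMonoidHom :=
    (Subgroup.map_equiv_normalizer_eq E (MulAut.conj g)).symm
  refine ⟨fun h => hE.ne_bot ((Subgroup.map_eq_bot_iff_of_injective _ (MulAut.conj g).injective).1 h),
    ?_, ?_, fun y hy hyc => ?_, ?_⟩
  · rw [card_map_of_injective (MulAut.conj g).injective]; exact hE.coprime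
  · rintro _ ⟨a, ha, rfl⟩ _ ⟨b, hb, rfl⟩
    rw [← map_mul, ← map_mul, hE.comm a ha b hb]
  · rw [hN] at hy
    obtain ⟨a, ha, rfl⟩ := hy
    refine mem_map_of_mem _ (hE.mem a ha ?_)
    rwa [orderOf_injective _ (MulAut.conj g).injective] at hyc
  · rintro _ ⟨a, ha, rfl⟩ hne x hx
    rw [hN]
    refine ⟨g⁻¹ * x * g, hE.cent a ha (fun h => hne (by rw [h, map_one])) ?_, by simp [mul_assoc]⟩
    have h1 : x * (g * a * g⁻¹) = g * a * g⁻¹ * x := mem_centralizer_singleton_iff.1 hx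
    refine mem_centralizer_singleton_iff.2 ?_
    calc g⁻¹ * x * g * a = g⁻¹ * (x * (g * a * g⁻¹)) * g := by group
      _ = a * (g⁻¹ * x * g) := by rw [h1]; group

namespace Min

variable (hG : Min p G)
include hG

/-- The `p'`-elements of `N(A)`, `A = om q Q`, lie in one abelian normal subgroup. -/
theorem isType_core {q : ℕ} [hq : Fact q.Prime] (hqp : q ≠ p) (Q : Sylow q G) (hQ : (Q : Subgroup G) ≠ ⊥) :
    IsType p ((Cfsg.pPrimeCore p ↥(normalizer (om q (Q : Subgroup G) : Set G))).map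
        (normalizer (om q (Q : Subgroup G) : Set G)).subtype) ∧
      normalizer (((Cfsg.pPrimeCore p ↥(normalizer (om q (Q : Subgroup G) : Set G))).map
        (normalizer (om q (Q : Subgroup G) : Set G)).subtype : Subgroup G) : Set G) =
          normalizer (om q (Q : Subgroup G) : Set G) := by
  set M0 : ∀ (r : ℕ) (S : Subgroup G), Subgroup G := fun r S =>
    (Cfsg.pPrimeCore p ↥(normalizer (om r S : Set G))).map (normalizer (om r S : Set G)).subtype with hM0
  have hsylow : ∀ (r : ℕ) [Fact r.Prime], r ≠ p → ∀ S : Sylow r G, (S : Subgroup G) ≠ ⊥ →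
      normalizer (om r (S : Subgroup G) : Set G) ≠ ⊤ ∧ (S : Subgroup G) ≤ M0 r S := by
    intro r _ hrp S hS
    have hAq : IsPGroup r ↥(om r (S : Subgroup G)) := S.isPGroup'.to_le (om_le r _)
    have hAne : om r (S : Subgroup G) ≠ ⊥ := CfsgLib.Signalizer.ne_bot_of_pow_le
      (hG.three_le_rank hrp S hS) (by norm_num)
    have hM := hG.normalizer_ne_top (by haveI := hAq.isNilpotent; infer_instance) hAne
    refine ⟨hM, ?_⟩
    set M := normalizer (om r (S : Subgroup G) : Set G)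
    have hNM : normalizer ((S : Subgroup G) : Set G) ≤ M := normalizer_le_normalizer_om r _
    have hSM : (S : Subgroup G) ≤ M := le_normalizer.trans hNM
    refine (hG.le_of_trivial_mod hrp S le_rfl (X0 := (S : Subgroup G) ⊓ M0 r S) fun n hn x hx => ?_).trans
      inf_le_right
    refine mem_inf.2 ⟨mul_mem ((mem_normalizer_iff.1 hn x).1 hx) (inv_mem hx), ?_⟩
    obtain ⟨u, v, e, -, hu, hv, hup, hvp⟩ := exists_parts (p := p) n
    have huS := zpowers_le.2 hn hu
    have hvc := hG.ab.mem_centralizer (hG.coprime_of_isPGroup hrp S.isPGroup') hvp (zpowers_le.2 hn hv)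
    have hva : v * x * v⁻¹ = x := by rw [← mem_centralizer_iff.1 hvc x hx, mul_inv_cancel_right]
    rw [show n * x * n⁻¹ = u * x * u⁻¹ by
      rw [e]; calc u * v * x * (u * v)⁻¹ = u * (v * x * v⁻¹) * u⁻¹ := by group
        _ = u * x * u⁻¹ := by rw [hva]]
    refine ⟨⟨u, hNM huS⟩ * ⟨x, hSM hx⟩ * ⟨u, hNM huS⟩⁻¹ * ⟨x, hSM hx⟩⁻¹, ?_, rfl⟩
    refine (hG.good hM).commutator_mem (X := (S : Subgroup G).subgroupOf M) ?_ ?_ ?_ (mem_subgroupOf.2 hx)
    · rw [Nat.card_congr (subgroupOfEquivOfLe hSM).toEquiv]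
      exact hG.coprime_of_isPGroup hrp S.isPGroup'
    · intro y
      obtain ⟨k, hk⟩ := hup ⟨((y : ↥M) : G), by
        obtain ⟨i, hi⟩ := mem_zpowers_iff.1 y.2
        rw [← hi, SubgroupClass.coe_zpow]
        exact zpow_mem (mem_zpowers u) i⟩
      exact ⟨k, Subtype.ext (Subtype.ext (by simpa using congrArg Subtype.val hk))⟩
    · rw [mem_normalizer_iff]
      exact fun y => mem_normalizer_iff.1 huS (y : G)
  obtain ⟨hMne, hQE⟩ := hsylow q hqp Q hQ
  set A := om q (Q : Subgroup G) with hA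
  set M := normalizer (A : Set G) with hM
  set E := (Cfsg.pPrimeCore p ↥M).map M.subtype with hE
  have hEc : (Nat.card ↥E).Coprime p := by rw [hE, card_subtype]; exact CfsgLib.PCore.pPrimeCore_coprime
  have hEM : E ≤ M := map_subtype_le _
  have hAE : A ≤ E := (om_le q _).trans hQE
  have hMN : M ≤ normalizer (E : Set G) := le_normalizer.trans
    (CfsgLib.Structure.normalizer_le_normalizer_map_subtype M (Cfsg.pPrimeCore p ↥M))
  have hEne : E ≠ ⊥ := fun h => hQ (le_bot_iff.1 (h ▸ hQE))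
  have hEab := (hG.ab E hEc).1
  have hNE : normalizer (E : Set G) = M := le_antisymm
    (hG.le_normalizer_om hqp Q hQ (hG.normalizer_ne_top (by
      exact Group.isSolvable_of_comm fun a b => hEab.is_comm.comm a b) hEne) (hAE.trans le_normalizer)) hMN
  -- a Sylow subgroup through an `ℓ`-element of `M`
  have hrebase : ∀ (ℓ : ℕ) [Fact ℓ.Prime], ℓ ≠ p → ∀ y ∈ M, y ≠ 1 → IsPGroup ℓ ↥(zpowers y) →
      ∀ L : Sylow ℓ G, y ∈ (L : Subgroup G) → (L : Subgroup G) ≠ ⊥ ∧
        normalizer (om ℓ (L : Subgroup G) : Set G) = M ∧ (L : Subgroup G) ≤ E := by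
    intro ℓ _ hℓp y hy hy1 hyp L hyL
    have hLne : (L : Subgroup G) ≠ ⊥ := fun h => hy1 (mem_bot.1 (h ▸ hyL))
    have hAcop : (Nat.card ↥A).Coprime p := hG.coprime_of_isPGroup hqp (Q.isPGroup'.to_le (om_le q _))
    have hyA : A ≤ centralizer ({y} : Set G) := by
      have hyc : (orderOf y).Coprime p := by rw [← Nat.card_zpowers]; exact hG.coprime_of_isPGroup hℓp hyp
      exact fun a ha => mem_centralizer_singleton_iff.2
        (mem_centralizer_iff.1 (hG.ab.mem_centralizer hAcop hyc hy) a ha)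
    have hLc : (L : Subgroup G) ≤ M := fun z hz =>
      hG.le_normalizer_om hqp Q hQ (hG.centralizer_ne_top hy1) hyA (mem_centralizer_singleton_iff.2
        (congrArg Subtype.val ((hG.sylow_comm hℓp L).is_comm.comm ⟨z, hz⟩ ⟨y, hyL⟩)))
    obtain ⟨hM'ne, hLE'⟩ := hsylow ℓ hℓp L hLne
    have hLA : A ≤ normalizer (om ℓ (L : Subgroup G) : Set G) := fun a ha => by
      refine centralizer_le_normalizer _ (mem_centralizer_iff.2 fun z hz => ?_)
      have hzc : (orderOf z).Coprime p := by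
        refine (hG.coprime_of_isPGroup hℓp L.isPGroup').coprime_dvd_left ?_
        rw [← Subgroup.orderOf_mk z (om_le ℓ _ hz)]
        exact orderOf_dvd_natCard _
      exact (mem_centralizer_iff.1 (hG.ab.mem_centralizer hAcop hzc (hLc (om_le ℓ _ hz))) a ha).symm
    have heq : normalizer (om ℓ (L : Subgroup G) : Set G) = M := le_antisymm
      (hG.le_normalizer_om hqp Q hQ hM'ne hLA)
      (hG.le_normalizer_om hℓp L hLne hMne ((om_le ℓ _).trans hLc))
    have hgen : ∀ X Y : Subgroup G, X = Y → (Cfsg.pPrimeCore p ↥X).map X.subtype =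
        (Cfsg.pPrimeCore p ↥Y).map Y.subtype := fun X Y h => by subst h; rfl
    exact ⟨hLne, heq, hLE'.trans (hgen _ _ heq).le⟩
  refine ⟨⟨hEne, hEc, fun x hx y hy => congrArg Subtype.val (hEab.is_comm.comm ⟨x, hx⟩ ⟨y, hy⟩),
    fun y hy hyc => ?_, fun y hy hy1 => ?_⟩, hNE⟩
  · rw [hNE] at hy
    set f := QuotientGroup.mk' (Cfsg.pPrimeCore p ↥M)
    refine ⟨⟨y, hy⟩, (QuotientGroup.eq_one_iff _).1 (orderOf_eq_one_iff.1 ?_), rfl⟩
    by_contra hne
    obtain ⟨ℓ, hℓ, hd⟩ := Nat.exists_prime_and_dvd hne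
    haveI := Fact.mk hℓ
    obtain ⟨k, m, hm, e⟩ := Nat.exists_eq_pow_mul_and_not_dvd (orderOf_pos y).ne' ℓ hℓ.ne_one
    have hyd : orderOf (f ⟨y, hy⟩) ∣ orderOf y := by
      rw [← Subgroup.orderOf_mk y hy]; exact orderOf_map_dvd f _
    have hk : k ≠ 0 := fun h => hm (by
      rw [h, pow_zero, one_mul] at e; exact e ▸ hd.trans hyd)
    have hy' : orderOf (y ^ m) = ℓ ^ k := by
      have hm0 : m ≠ 0 := fun h => by rw [h, mul_zero] at e; exact (orderOf_pos y).ne' e
      rw [orderOf_pow' _ hm0, e, Nat.gcd_mul_left_left, Nat.mul_div_cancel _ (Nat.pos_of_ne_zero hm0)]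
    have hℓp : ℓ ≠ p := fun h => by
      subst h
      exact hℓ.coprime_iff_not_dvd.1 hyc.symm (hd.trans hyd)
    have hpg : IsPGroup ℓ ↥(zpowers (y ^ m)) := IsPGroup.of_card (n := k) (by rw [Nat.card_zpowers, hy'])
    obtain ⟨L, hL⟩ := hpg.exists_le_sylow
    have hne1 : y ^ m ≠ 1 := fun h => by
      rw [h, orderOf_one] at hy'
      exact absurd hy'.symm (Nat.one_lt_pow hk hℓ.one_lt).ne'
    obtain ⟨-, -, hLE⟩ := hrebase ℓ hℓp (y ^ m) (pow_mem hy m) hne1 hpg L (hL (mem_zpowers _))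
    obtain ⟨z, hz, hze⟩ := hLE (hL (mem_zpowers _))
    have hf : f ⟨y, hy⟩ ^ m = 1 := by
      rw [← map_pow, show (⟨y, hy⟩ : ↥M) ^ m = z from Subtype.ext (by simpa using hze.symm)]
      exact (QuotientGroup.eq_one_iff z).2 hz
    exact hm (hd.trans (orderOf_dvd_of_pow_eq_one hf))
  · obtain ⟨ℓ, hℓ, hd⟩ := Nat.exists_prime_and_dvd (n := orderOf y) (by rwa [ne_eq, orderOf_eq_one_iff])
    haveI := Fact.mk hℓ
    have hℓo : orderOf (y ^ (orderOf y / ℓ)) = ℓ := orderOf_pow_orderOf_div (orderOf_pos y).ne' hd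
    set a := y ^ (orderOf y / ℓ) with ha
    have hℓp : ℓ ≠ p := fun h => by
      subst h
      refine hℓ.coprime_iff_not_dvd.1 ?_ hd
      refine Nat.Coprime.symm (hEc.coprime_dvd_left ?_)
      rw [← Subgroup.orderOf_mk y hy]
      exact orderOf_dvd_natCard _
    have ha1 : a ≠ 1 := fun h => hℓ.one_lt.ne' (by rw [← hℓo, h, orderOf_one])
    have hpg : IsPGroup ℓ ↥(zpowers a) := IsPGroup.of_card (n := 1) (by rw [Nat.card_zpowers, hℓo, pow_one])
    obtain ⟨L, hL⟩ := hpg.exists_le_sylow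
    have haL : a ∈ (L : Subgroup G) := hL (mem_zpowers _)
    obtain ⟨hLne, heq, -⟩ := hrebase ℓ hℓp a (hEM (pow_mem hy _)) ha1 hpg L haL
    rw [hNE]
    refine le_trans (fun z hz => ?_) ((hG.le_normalizer_om hℓp L hLne (hG.centralizer_ne_top ha1)
      fun b hb => mem_centralizer_singleton_iff.2 (congrArg Subtype.val
        ((hG.sylow_comm hℓp L).is_comm.comm ⟨b, om_le ℓ _ hb⟩ ⟨a, haL⟩))).trans_eq heq)
    exact mem_centralizer_singleton_iff.2
      (Commute.pow_right (mem_centralizer_singleton_iff.1 hz : Commute z y) _).eq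

/-- Every nontrivial `p'`-element lies in such a subgroup. -/
theorem exists_isType {y : G} (hy : (orderOf y).Coprime p) (hy1 : y ≠ 1) :
    ∃ E, IsType p E ∧ y ∈ E := by
  obtain ⟨ℓ, hℓ, hd⟩ := Nat.exists_prime_and_dvd (n := orderOf y) (by rwa [ne_eq, orderOf_eq_one_iff])
  haveI := Fact.mk hℓ
  have hℓp : ℓ ≠ p := fun h => hℓ.coprime_iff_not_dvd.1 (h ▸ hy.symm) hd
  have hℓo : orderOf (y ^ (orderOf y / ℓ)) = ℓ := orderOf_pow_orderOf_div (orderOf_pos y).ne' hd
  set a := y ^ (orderOf y / ℓ) with ha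
  have ha1 : a ≠ 1 := fun h => hℓ.one_lt.ne' (by rw [← hℓo, h, orderOf_one])
  have hpg : IsPGroup ℓ ↥(zpowers a) := IsPGroup.of_card (n := 1) (by rw [Nat.card_zpowers, hℓo, pow_one])
  obtain ⟨L, hL⟩ := hpg.exists_le_sylow
  have haL : a ∈ (L : Subgroup G) := hL (mem_zpowers _)
  have hLne : (L : Subgroup G) ≠ ⊥ := fun h => ha1 (mem_bot.1 (h ▸ haL))
  obtain ⟨hT, hN⟩ := hG.isType_core hℓp L hLne
  refine ⟨_, hT, hT.mem y ?_ hy⟩
  rw [hN]
  exact hG.le_normalizer_om hℓp L hLne (hG.centralizer_ne_top ha1)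
    (fun b hb => mem_centralizer_singleton_iff.2 (congrArg Subtype.val
      ((hG.sylow_comm hℓp L).is_comm.comm ⟨b, om_le ℓ _ hb⟩ ⟨a, haL⟩)))
    (mem_centralizer_singleton_iff.2 ((Commute.refl y).pow_right _).eq)

theorem type_normalizer_ne_top {E : Subgroup G} (hE : IsType p E) : normalizer (E : Set G) ≠ ⊤ :=
  hG.normalizer_ne_top (by
    exact Group.isSolvable_of_comm fun a b => Subtype.ext (hE.comm a a.2 b b.2)) hE.ne_bot

/-- The index of `E` in its normalizer is a nontrivial power of `p`. -/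
theorem type_index {E : Subgroup G} (hE : IsType p E) :
    ∃ k : ℕ, k ≠ 0 ∧ Nat.card ↥(normalizer (E : Set G)) = Nat.card ↥E * p ^ k := by
  set M := normalizer (E : Set G)
  haveI hn : (E.subgroupOf M).Normal := normal_subgroupOf_of_le_normalizer le_rfl
  have hZ : IsPGroup p (↥M ⧸ E.subgroupOf M) := by
    intro z
    obtain ⟨x, rfl⟩ := QuotientGroup.mk'_surjective _ z
    obtain ⟨u, v, rfl, -, -, -, hu, hvc⟩ := exists_parts (p := p) x
    obtain ⟨k, hk⟩ := hu ⟨u, mem_zpowers u⟩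
    refine ⟨k, ?_⟩
    have hk' : u ^ p ^ k = 1 := by simpa using congrArg Subtype.val hk
    have hv : v ∈ E.subgroupOf M :=
      mem_subgroupOf.2 (hE.mem v v.2 (by rwa [Subgroup.orderOf_coe]))
    rw [map_mul, show QuotientGroup.mk' (E.subgroupOf M) v = 1 from (QuotientGroup.eq_one_iff v).2 hv,
      mul_one, ← map_pow, hk', map_one]
  obtain ⟨k, hk⟩ := IsPGroup.iff_card.1 hZ
  refine ⟨k, fun h0 => ?_, ?_⟩
  · rw [h0, pow_zero] at hk
    have hME : M ≤ E := by
      refine subgroupOf_eq_top.1 ?_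
      rw [← index_eq_one, index, hk]
    obtain ⟨y, hy, hy1⟩ := E.ne_bot_iff_exists_ne_one.1 hE.ne_bot |> fun ⟨z, hz⟩ =>
      (⟨z.1, z.2, fun h => hz (Subtype.ext h)⟩ : ∃ y, y ∈ E ∧ y ≠ 1)
    obtain ⟨ℓ, hℓ, hd⟩ := Nat.exists_prime_and_dvd (n := orderOf y) (by rwa [ne_eq, orderOf_eq_one_iff])
    haveI := Fact.mk hℓ
    have hℓp : ℓ ≠ p := fun h => hℓ.coprime_iff_not_dvd.1 (h ▸ (hE.orderOf_coprime hy).symm) hd
    have hℓo : orderOf (y ^ (orderOf y / ℓ)) = ℓ := orderOf_pow_orderOf_div (orderOf_pos y).ne' hd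
    set a := y ^ (orderOf y / ℓ) with ha
    have ha1 : a ≠ 1 := fun h => hℓ.one_lt.ne' (by rw [← hℓo, h, orderOf_one])
    have hpg : IsPGroup ℓ ↥(zpowers a) := IsPGroup.of_card (n := 1) (by rw [Nat.card_zpowers, hℓo, pow_one])
    obtain ⟨L, hL⟩ := hpg.exists_le_sylow
    have haL : a ∈ (L : Subgroup G) := hL (mem_zpowers _)
    have hLc := hG.sylow_comm hℓp L
    have hLE : (L : Subgroup G) ≤ E := fun z hz => hE.mem z
      (hE.cent a (pow_mem hy _) ha1 (mem_centralizer_singleton_iff.2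
        (congrArg Subtype.val (hLc.is_comm.comm ⟨z, hz⟩ ⟨a, haL⟩)))) (by
        refine (hG.coprime_of_isPGroup hℓp L.isPGroup').coprime_dvd_left ?_
        rw [← Subgroup.orderOf_mk z hz]; exact orderOf_dvd_natCard _)
    obtain ⟨u, hu, -, huL⟩ := hG.exists_pElement_not_centralizing hℓp L
      (fun h => ha1 (mem_bot.1 (h ▸ haL)))
    have hua : u * a * u⁻¹ ∈ (L : Subgroup G) := (mem_normalizer_iff.1 hu a).1 haL
    have hne : u * a * u⁻¹ ≠ 1 := by rwa [ne_eq, conj_eq_one_iff]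
    have heq := hE.unique (hE.conj u) (hLE hua) (mem_map_of_mem _ (pow_mem hy _)) hne
    have huE : u ∈ E := hME (map_conj_eq_self_iff.1 heq.symm)
    exact huL (mem_centralizer_iff.2 fun z hz => hE.comm z (hLE hz) u huE)
  · rw [← card_mul_index (E.subgroupOf M), index, hk,
      Nat.card_congr (subgroupOfEquivOfLe (le_normalizer : E ≤ M)).toEquiv]

end Min

end CfsgLib.Techniques.PPA
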